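import Cfsg.Agent.WielandtOdd.Basic

/-!
# Decompositions from noncyclic elementary abelian normal subgroups
-/

set_option autoImplicit false

namespace Cfsg.Agent.WielandtOdd

open Subgroup

universe u

variable {H : Type u} [Group H] [Finite H] {V : Type u} [AddCommGroup V] [DistribMulAction H V]
  [Finite V]

/-- A chosen inverse of `n` on `V`. -/
noncomputable def invOn (V : Type u) [AddCommGroup V] [Finite V] (n : ℕ) : ℕ :=
  if h : n.Coprime (Nat.card V) then Classical.choose (exists_nsmul_inv (V := V) h) else 0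

theorem invOn_spec {n : ℕ} (hn : n.Coprime (Nat.card V)) (v : V) :
    invOn V n • n • v = v := by
  rw [invOn, dif_pos hn]
  exact (Classical.choose_spec (exists_nsmul_inv (V := V) hn) v).1

/-- The average over a subgroup. -/
noncomputable def avg (C : Subgroup H) : V →+ V where
  toFun v :=
    letI := Fintype.ofFinite ↥C
    invOn V (Nat.card ↥C) • ∑ c : ↥C, (c : H) • v
  map_zero' := by simp
  map_add' u v := by simp [smul_add, Finset.sum_add_distrib]

theorem avg_apply (C : Subgroup H) [Fintype ↥C] (v : V) :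
    avg C v = invOn V (Nat.card ↥C) • ∑ c : ↥C, (c : H) • v := by
  change (letI := Fintype.ofFinite ↥C; invOn V (Nat.card ↥C) • ∑ c : ↥C, (c : H) • v) = _
  congr 2
  ext
  simp

theorem smul_avg_self (C : Subgroup H) {c : H} (hc : c ∈ C) (v : V) : c • avg C v = avg C v := by
  classical
  have := Fintype.ofFinite ↥C
  rw [avg_apply, smul_comm, Finset.smul_sum]
  congr 1
  rw [← Equiv.sum_comp (Equiv.mulLeft (⟨c, hc⟩ : ↥C)) (fun d : ↥C => (d : H) • v)]
  exact Finset.sum_congr rfl fun d _ => by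
    rw [← mul_smul]; rfl

theorem avg_fixed {C : Subgroup H} (hC : (Nat.card ↥C).Coprime (Nat.card V)) {v : V}
    (hv : ∀ c ∈ C, c • v = v) : avg C v = v := by
  classical
  have := Fintype.ofFinite ↥C
  rw [avg_apply, Finset.sum_congr rfl fun (c : ↥C) _ => hv c c.2, Finset.sum_const,
    Finset.card_univ, ← Nat.card_eq_fintype_card, invOn_spec hC]

theorem avg_comm {C : Subgroup H} {h : H} (hh : ∀ c ∈ C, h * c = c * h) (v : V) :
    avg C (h • v) = h • avg C v := by
  classical
  have := Fintype.ofFinite ↥C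
  rw [avg_apply, avg_apply, smul_comm h]
  congr 1
  rw [Finset.smul_sum]
  exact Finset.sum_congr rfl fun c _ => by rw [← mul_smul, ← mul_smul, hh c c.2]

theorem smul_avg (C : Subgroup H) (h : H) (v : V) :
    h • avg C v = avg (C.map (MulAut.conj h).toMonoidHom) (h • v) := by
  classical
  have := Fintype.ofFinite ↥C
  have := Fintype.ofFinite ↥(C.map (MulAut.conj h).toMonoidHom)
  rw [avg_apply, avg_apply, card_map_of_injective (MulAut.conj h).injective, smul_comm h,
    Finset.smul_sum]
  congr 1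
  rw [← Equiv.sum_comp (C.equivMapOfInjective _ (MulAut.conj h).injective).toEquiv
    (fun d : ↥(C.map (MulAut.conj h).toMonoidHom) => (d : H) • h • v)]
  refine Finset.sum_congr rfl fun c _ => ?_
  rw [← mul_smul, ← mul_smul]
  congr 1
  change h * (c : H) = h * (c : H) * h⁻¹ * h
  rw [inv_mul_cancel_right]

variable {p : ℕ} [hp : Fact p.Prime]

/-- A noncyclic elementary abelian normal subgroup splits the module. -/
theorem exists_decomp (hcop : p.Coprime (Nat.card V)) (hirr : Irr H V) (hf : Faith H V)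
    (B : Subgroup H) [hBn : B.Normal] (hBe : ∀ b ∈ B, b ^ p = 1)
    (hBc : ∀ a ∈ B, ∀ b ∈ B, a * b = b * a) (hbig : p < Nat.card ↥B) :
    ∃ (ι : Type u) (_ : MulAction H ι) (_ : Fintype ι), Nonempty (Decomp H V ι) := by
  classical
  have hBp : IsPGroup p B := fun b => ⟨1, Subtype.ext (by simpa using hBe b b.2)⟩
  have hcopC : ∀ C : Subgroup H, C ≤ B → (Nat.card ↥C).Coprime (Nat.card V) := fun C hC => by
    obtain ⟨k, hk⟩ := IsPGroup.iff_card.mp (hBp.to_le hC)
    rw [hk]; exact hcop.pow_left k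
  have hB0 : ∀ v : V, (∀ b ∈ B, b • v = v) → v = 0 := by
    intro v hv
    obtain ⟨b, hb, hb1⟩ : ∃ b ∈ B, b ≠ 1 := by
      by_contra hcon; push Not at hcon
      rw [eq_bot_iff_forall B |>.mpr hcon, card_bot] at hbig
      exact absurd hp.out.one_lt (by omega)
    have h := fixedBy'_eq_bot (V := V) hirr B ⟨b, hb, by
      by_contra hcon; push Not at hcon; exact hb1 (hf b hcon)⟩
    exact (AddSubgroup.eq_bot_iff_forall _).mp h v hv
  set 𝒞 : Finset (Subgroup H) := (Set.toFinite {C : Subgroup H | C < B ∧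
    ∀ x ∈ B, x ∉ C → C ⊔ zpowers x = B}).toFinset with h𝒞
  have hmem : ∀ C, C ∈ 𝒞 ↔ C < B ∧ ∀ x ∈ B, x ∉ C → C ⊔ zpowers x = B := fun C => by simp [h𝒞]
  have horth : ∀ C ∈ 𝒞, ∀ D ∈ 𝒞, C ≠ D → ∀ v : V, avg C (avg D v) = 0 := by
    intro C hC D hD hne v
    obtain ⟨hCB, hCmax⟩ := (hmem C).mp hC
    obtain ⟨hDB, hDmax⟩ := (hmem D).mp hD
    refine hB0 _ ?_
    have key : ∀ E : Subgroup H, C ≤ E → D ≤ E → B ≤ E := by
      intro E hCE hDE
      by_cases hDC : D ≤ C
      · obtain ⟨x, hxC, hxD⟩ := SetLike.exists_of_lt (lt_of_le_of_ne hDC (Ne.symm hne))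
        rw [← hDmax x (hCB.le hxC) hxD]
        exact sup_le hDE (zpowers_le.mpr (hCE hxC))
      · obtain ⟨x, hxD, hxC⟩ := SetLike.not_le_iff_exists.mp hDC
        rw [← hCmax x (hDB.le hxD) hxC]
        exact sup_le hCE (zpowers_le.mpr (hDE hxD))
    refine fun b hb => key (MulAction.stabilizer H (avg C (avg D v))) ?_ ?_ hb
    · exact fun c hc => smul_avg_self C hc _
    · intro d hd
      rw [MulAction.mem_stabilizer_iff,
        ← avg_comm (fun c hc => hBc d (hDB.le hd) c (hCB.le hc)), smul_avg_self D hd]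
  have hidem : ∀ C ∈ 𝒞, ∀ v : V, avg C (avg C v) = avg C v := fun C hC v =>
    avg_fixed (hcopC C ((hmem C).mp hC).1.le) fun c hc => smul_avg_self C hc v
  have hkill : ∀ u : V, (∀ C ∈ 𝒞, avg C u = 0) → u = 0 := by
    intro u hu
    by_contra hu0
    obtain ⟨C, ⟨hCB, w, hw, hw0, hwC⟩, hCmax⟩ := Set.Finite.exists_maximal
      (Set.toFinite {C : Subgroup H | C ≤ B ∧ ∃ w : V, (∀ D ∈ 𝒞, avg D w = 0) ∧ w ≠ 0 ∧
        ∀ c ∈ C, c • w = w}) ⟨⊥, bot_le, u, hu, hu0, fun c hc => by
          rw [mem_bot.mp hc, one_smul]⟩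
    have hne : C ≠ B := fun e => hw0 (hB0 w (e ▸ hwC))
    have hlt : C < B := lt_of_le_of_ne hCB hne
    have hnot : C ∉ 𝒞 := fun h => hw0 (by rw [← avg_fixed (hcopC C hCB) hwC]; exact hw C h)
    rw [hmem, not_and] at hnot
    have hnot' := hnot hlt
    push Not at hnot'
    obtain ⟨x, hxB, hxC, hxne⟩ := hnot'
    have hxle : C ⊔ zpowers x ≤ B := sup_le hCB (zpowers_le.mpr hxB)
    obtain ⟨y, hyB, hyE⟩ := SetLike.exists_of_lt (lt_of_le_of_ne hxle hxne)
    have hext : ∀ g ∈ B, g ∉ C → powSum p g w = 0 := by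
      intro g hgB hgC
      by_contra h0
      refine hgC ((hCmax ⟨sup_le hCB (zpowers_le.mpr hgB), powSum p g w, fun D hD => ?_, h0, ?_⟩
        le_sup_left) (mem_sup_right (mem_zpowers g)))
      · rw [powSum_apply, map_sum]
        refine Finset.sum_eq_zero fun i _ => ?_
        rw [avg_comm (fun d hd => hBc _ (B.pow_mem hgB _) d (((hmem D).mp hD).1.le hd)), hw D hD,
          smul_zero]
      · have hle : C ⊔ zpowers g ≤ MulAction.stabilizer H (powSum p g w) := by
          refine sup_le (fun c hc => ?_) (zpowers_le.mpr ?_)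
          · rw [MulAction.mem_stabilizer_iff,
              ← powSum_comm (hBc c (hCB hc) g hgB), hwC c hc]
          · have : NeZero p := ⟨hp.out.ne_zero⟩
            rw [MulAction.mem_stabilizer_iff]
            exact smul_powSum (by rw [hBe g hgB, one_smul])
        exact fun c hc => hle hc
    have hyC : y ∉ C := fun h => hyE (mem_sup_left h)
    refine hw0 (nsmul_inj hcop (nsmul_eq_zero_of_lines (hBc x hxB y hyB)
      (fun k hk => hext _ (B.pow_mem hyB k) fun hmemC => hyC ?_)
      (fun i => hext _ (B.mul_mem hxB (B.pow_mem hyB _)) fun hmemC => ?_)))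
    · obtain ⟨m, -, hm⟩ := Nat.exists_mul_mod_eq_one_of_coprime
        ((hp.out.coprime_iff_not_dvd.mpr hk).symm) hp.out.one_lt
      have := C.pow_mem hmemC m
      rwa [← pow_mul, ← Nat.mod_add_div (k * m) p, hm, pow_add, pow_one, pow_mul, hBe y hyB,
        one_pow, mul_one] at this
    · rcases Nat.eq_zero_or_pos (i : ℕ) with h0 | h0
      · rw [h0, pow_zero, mul_one] at hmemC; exact hxC hmemC
      · obtain ⟨m, -, hm⟩ := Nat.exists_mul_mod_eq_one_of_coprime
          ((hp.out.coprime_iff_not_dvd.mpr (Nat.not_dvd_of_pos_of_lt h0 i.2)).symm) hp.out.one_lt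
        refine hyE ?_
        have h1 : y ^ (i : ℕ) ∈ C ⊔ zpowers x := by
          have := mul_mem (inv_mem (mem_sup_right (S := C) (mem_zpowers x)))
            (mem_sup_left (T := zpowers x) hmemC)
          rwa [inv_mul_cancel_left] at this
        have := pow_mem h1 m
        rwa [← pow_mul, ← Nat.mod_add_div ((i : ℕ) * m) p, hm, pow_add, pow_one, pow_mul,
          hBe y hyB, one_pow, mul_one] at this
  have htotal : ∀ v : V, ∑ C ∈ 𝒞, avg C v = v := by
    intro v
    refine (sub_eq_zero.mp (hkill (v - ∑ C ∈ 𝒞, avg C v) fun C hC => ?_)).symm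
    rw [map_sub, map_sum, Finset.sum_eq_single C, hidem C hC, sub_self]
    · intro D hD hDC
      exact horth C hC D hD (Ne.symm hDC) v
    · exact fun h => absurd hC h
  have hconj : ∀ (h : H) (C : Subgroup H), C ∈ 𝒞 → C.map (MulAut.conj h).toMonoidHom ∈ 𝒞 := by
    intro h C hC
    obtain ⟨hCB, hCmax⟩ := (hmem C).mp hC
    have hBmap : B.map (MulAut.conj h).toMonoidHom = B := by
      ext b
      constructor
      · rintro ⟨c, hc, rfl⟩; exact hBn.conj_mem c hc h
      · intro hb
        exact ⟨h⁻¹ * b * h, hBn.conj_mem' b hb h, by simp [mul_assoc]⟩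
    refine (hmem _).mpr ⟨?_, ?_⟩
    · rw [← hBmap]
      exact map_lt_map_iff_of_injective (MulAut.conj h).injective |>.mpr hCB
    · intro x hx hxC
      rw [← hBmap] at hx
      obtain ⟨c, hc, rfl⟩ := hx
      rw [← MonoidHom.map_zpowers, ← Subgroup.map_sup,
        hCmax c hc (fun h' => hxC (mem_map_of_mem _ h')), hBmap]
  let S : Set (Subgroup H) := {C | C ∈ 𝒞 ∧ ∃ v : V, avg C v ≠ 0}
  let act : MulAction H S :=
    { smul := fun h C => ⟨C.1.map (MulAut.conj h).toMonoidHom, hconj h C.1 C.2.1, by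
        obtain ⟨v, hv⟩ := C.2.2
        refine ⟨h • v, fun e => hv ?_⟩
        rw [← smul_avg] at e
        rw [← inv_smul_smul h (avg C.1 v), e, smul_zero]⟩
      one_smul := fun C => Subtype.ext (by
        change C.1.map (MulAut.conj (1 : H)).toMonoidHom = C.1
        rw [map_one]
        exact Subgroup.map_id C.1)
      mul_smul := fun g h C => Subtype.ext (by
        change C.1.map (MulAut.conj (g * h)).toMonoidHom =
          (C.1.map (MulAut.conj h).toMonoidHom).map (MulAut.conj g).toMonoidHom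
        rw [Subgroup.map_map, map_mul]
        rfl) }
  have : Fintype S := Fintype.ofFinite _
  have hsum : ∀ v : V, ∑ C : S, avg C.1 v = v := by
    intro v
    conv_rhs => rw [← htotal v]
    rw [← Finset.sum_filter_of_ne (p := fun C : Subgroup H => ∃ u : V, avg C u ≠ 0)
      (fun C _ h => ⟨v, h⟩)]
    exact (Finset.sum_subtype _ (fun C => by simp [S]) (fun C => avg C v)).symm
  refine ⟨S, act, inferInstance, ⟨{
    e := fun C => avg C.1
    idem := fun C v => hidem C.1 C.2.1 v
    orth := fun C D v h => horth C.1 C.2.1 D.1 D.2.1 (fun e => h (Subtype.ext e)) v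
    total := hsum
    smul := fun h C v => smul_avg C.1 h v
    ne := fun C => C.2.2
    two := ?_ }⟩⟩
  by_contra hlt
  rcases Nat.eq_zero_or_pos (Fintype.card S) with h0 | h0
  · have := Fintype.card_eq_zero_iff.mp h0
    have hV : ∀ v : V, v = 0 := fun v => (hsum v).symm.trans (by simp)
    have hB1 : B ≤ ⊥ := fun b _ => mem_bot.mpr (hf b fun v => by rw [hV v, smul_zero])
    have := (card_le_of_le hB1).trans card_bot.le
    have := hp.out.one_lt
    omega
  · obtain ⟨C, hC⟩ := Fintype.card_eq_one_iff.mp (by omega : Fintype.card S = 1)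
    have hC' := (hmem C.1).mp C.2.1
    have hfix : ∀ v : V, avg C.1 v = v := fun v => by
      rw [← Fintype.sum_eq_single C (f := fun D : S => avg D.1 v) fun D h => absurd (hC D) h]
      exact hsum v
    have hbot : (C.1 : Subgroup H) = ⊥ := (eq_bot_iff_forall _).mpr fun c hc =>
      hf c fun v => by rw [← hfix v]; exact smul_avg_self C.1 hc v
    obtain ⟨x, hxB, hx1⟩ : ∃ x ∈ B, x ≠ 1 := by
      by_contra hcon; push Not at hcon
      rw [eq_bot_iff_forall B |>.mpr hcon, card_bot] at hbig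
      exact absurd hp.out.one_lt (by omega)
    have h2 := hC'.2 x hxB (fun h => hx1 (mem_bot.mp (hbot ▸ h)))
    rw [hbot, bot_sup_eq] at h2
    rw [← h2, Nat.card_zpowers] at hbig
    exact absurd (Nat.le_of_dvd hp.out.pos (orderOf_dvd_of_pow_eq_one (hBe x hxB))) (by omega)

end Cfsg.Agent.WielandtOdd
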