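import Cfsg.Agent.WielandtOdd.Prim
import Cfsg.Agent.WielandtOdd.Split

/-!
# Conjugates of an element of `O_p` do not cover a coprime irreducible module
-/

set_option autoImplicit false

namespace Cfsg.Agent.WielandtOdd

open Subgroup

universe u

variable {H : Type u} [Group H] [Finite H] {V : Type u} [AddCommGroup V] [DistribMulAction H V]
  [Finite V]

/-- The setoid of orbits of a subgroup. -/
def orbitSetoid {ι : Type u} [MulAction H ι] (Z : Subgroup H) : Setoid ι where
  r i j := ∃ z ∈ Z, z • i = j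
  iseqv := ⟨fun i => ⟨1, one_mem _, one_smul _ i⟩,
    fun {i j} ⟨z, hz, h⟩ => ⟨z⁻¹, inv_mem hz, by rw [← h, inv_smul_smul]⟩,
    fun {i j k} ⟨z, hz, h⟩ ⟨w, hw, h'⟩ => ⟨w * z, mul_mem hw hz, by rw [mul_smul, h, h']⟩⟩

/-- A decomposition can be coarsened until every normal subgroup is trivial or transitive. -/
theorem exists_primitive : ∀ (n : ℕ) (ι : Type u) [MulAction H ι] [Fintype ι],
    Fintype.card ι = n → Decomp H V ι →
    ∃ (κ : Type u) (_ : MulAction H κ) (_ : Fintype κ), ∃ _D : Decomp H V κ,
      ∀ Z : Subgroup H, Z.Normal → (∀ z ∈ Z, ∀ i : κ, z • i = i) ∨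
        (∀ i j : κ, ∃ z ∈ Z, z • i = j) := by
  intro n
  induction n using Nat.strong_induction_on with
  | _ n ih =>
  intro ι _ _ hn D
  classical
  by_cases hprim : ∀ Z : Subgroup H, Z.Normal → (∀ z ∈ Z, ∀ i : ι, z • i = i) ∨
      (∀ i j : ι, ∃ z ∈ Z, z • i = j)
  · exact ⟨ι, inferInstance, inferInstance, D, hprim⟩
  push Not at hprim
  obtain ⟨Z, hZn, ⟨z0, hz0, i0, hmove⟩, i1, i2, hintr⟩ := hprim
  let s : Setoid ι := orbitSetoid Z
  have : Fintype (Quotient s) := Fintype.ofFinite _
  let act : MulAction H (Quotient s) :=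
    { smul := fun h q => Quotient.map (fun i => h • i) (by
        rintro i j ⟨z, hz, rfl⟩
        refine ⟨h * z * h⁻¹, hZn.conj_mem z hz h, ?_⟩
        simp only [mul_smul, inv_smul_smul]) q
      one_smul := fun q => Quotient.inductionOn q fun i => by
        change Quotient.mk s ((1 : H) • i) = Quotient.mk s i
        rw [one_smul]
      mul_smul := fun g h q => Quotient.inductionOn q fun i => by
        change Quotient.mk s ((g * h) • i) = Quotient.mk s (g • h • i)
        rw [mul_smul] }
  have hsm : ∀ (h : H) (i : ι), h • Quotient.mk s i = Quotient.mk s (h • i) := fun _ _ => rfl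
  let e' : Quotient s → V →+ V := fun q => ∑ i : ι, if Quotient.mk s i = q then D.e i else 0
  have he' : ∀ q v, e' q v = ∑ i : ι, if Quotient.mk s i = q then D.e i v else 0 := by
    intro q v
    simp only [e', AddMonoidHom.finset_sum_apply]
    exact Finset.sum_congr rfl fun i _ => by split <;> simp
  have hcomp : ∀ (i : ι) q v, D.e i (e' q v) = if Quotient.mk s i = q then D.e i v else 0 := by
    intro i q v
    rw [he', map_sum, Finset.sum_eq_single i]
    · split
      · exact D.idem i v
      · exact map_zero _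
    · intro j _ hj
      split
      · exact D.orth i j v (Ne.symm hj)
      · exact map_zero _
    · simp
  have hne' : Quotient.mk s i1 ≠ Quotient.mk s i2 := fun h => by
    obtain ⟨z, hz, hzi⟩ := Quotient.exact h
    exact hintr z hz hzi
  refine ih (Fintype.card (Quotient s)) ?_ (Quotient s) rfl
    { e := e'
      idem := fun q v => by
        rw [he' q (e' q v), he' q v]
        refine Finset.sum_congr rfl fun i _ => ?_
        split
        · next h => rw [← he', hcomp, if_pos h]
        · rfl
      orth := fun q r v hqr => by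
        rw [he']
        refine Finset.sum_eq_zero fun i _ => ?_
        split
        · next h => rw [hcomp, if_neg fun h' => hqr (h.symm.trans h')]
        · rfl
      total := fun v => by
        simp only [he']
        rw [Finset.sum_comm]
        conv_rhs => rw [← D.total v]
        exact Finset.sum_congr rfl fun i _ => by simp
      smul := fun h q v => by
        rw [he', he', Finset.smul_sum, ← Equiv.sum_comp (MulAction.toPerm h)
          (fun i => if Quotient.mk s i = h • q then D.e i (h • v) else 0)]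
        refine Finset.sum_congr rfl fun i _ => ?_
        simp only [MulAction.toPerm_apply]
        rw [← hsm]
        by_cases hq : Quotient.mk s i = q
        · rw [if_pos hq, if_pos (by rw [hq]), D.smul]
        · rw [if_neg hq, if_neg fun e => hq (MulAction.injective h e), smul_zero]
      ne := fun q => Quotient.inductionOn q fun i => by
        obtain ⟨v, hv⟩ := D.ne i
        refine ⟨v, fun h => hv ?_⟩
        have := congrArg (D.e i) h
        rwa [hcomp, if_pos rfl, map_zero] at this
      two := by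
        rw [Nat.succ_le_iff, Fintype.one_lt_card_iff]
        exact ⟨_, _, hne'⟩ }
  rw [← hn]
  refine Fintype.card_lt_of_surjective_not_injective _ Quotient.mk_surjective fun hinj => ?_
  exact hmove (hinj (Quotient.sound (show (orbitSetoid Z).r i0 (z0 • i0) from ⟨z0, hz0, rfl⟩))).symm

/-- The orbit theorem. -/
theorem exists_vector {p : ℕ} [hp : Fact p.Prime] (hp2 : p ≠ 2) : ∀ (n : ℕ) (H : Type u) [Group H]
    [Finite H] (V : Type u) [AddCommGroup V] [DistribMulAction H V] [Finite V],
    Nat.card V = n → p.Coprime (Nat.card V) → Irr H V →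
    ∀ (N : Subgroup H), N.Normal → IsPGroup p N → ∀ a ∈ N, (∀ v : V, a ^ p • v = v) →
      (∃ v : V, a • v ≠ v) → ∃ v : V, ∀ g : H, (g * a * g⁻¹) • v ≠ v := by
  intro n
  induction n using Nat.strong_induction_on with
  | _ n ih =>
  -- the faithful case suffices
  suffices hfaith : ∀ (H : Type u) [Group H] [Finite H] (V : Type u) [AddCommGroup V]
      [DistribMulAction H V] [Finite V], Nat.card V = n → p.Coprime (Nat.card V) → Irr H V →
      Faith H V → ∀ (N : Subgroup H), N.Normal → IsPGroup p N → ∀ a ∈ N, a ^ p = 1 → a ≠ 1 →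
        ∃ v : V, ∀ g : H, (g * a * g⁻¹) • v ≠ v by
    intro H _ _ V _ _ _ hn hcop hirr N hN hNp a ha hap hne
    classical
    let f : H →* (V ≃ₗ[ℤ] V) := DistribMulAction.toModuleAut ℤ V
    have hfin : Finite (V ≃ₗ[ℤ] V) :=
      Finite.of_injective (fun e => (e : V → V)) DFunLike.coe_injective
    have hsmul : ∀ (h : H) (v : V), (f.rangeRestrict h : ↥f.range) • v = h • v := fun _ _ => rfl
    have hsurj := f.rangeRestrict_surjective
    have hirr' : Irr ↥f.range V := fun W hW => hirr W fun h w hw => by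
      rw [← hsmul]; exact hW _ w hw
    have hf' : Faith ↥f.range V := fun h hh => Subtype.ext (LinearEquiv.ext hh)
    have hap' : f.rangeRestrict a ^ p = 1 := by
      refine hf' _ fun v => ?_
      rw [← map_pow, hsmul]; exact hap v
    obtain ⟨v, hv⟩ := hfaith ↥f.range V hn hcop hirr' hf' (N.map f.rangeRestrict)
      (hN.map _ hsurj) (hNp.map _) _ (mem_map_of_mem _ ha) hap' (fun e => by
        obtain ⟨v, hv⟩ := hne
        rw [← hsmul, e, one_smul] at hv
        exact hv rfl)
    refine ⟨v, fun g hg => hv (f.rangeRestrict g) ?_⟩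
    rw [← map_mul, ← map_inv, ← map_mul, hsmul]; exact hg
  intro H _ _ V _ _ _ hn hcop hirr hf N hN hNp a ha hap ha1
  classical
  by_cases hprim : ∀ B : Subgroup H, B.Normal → B ≤ N → (∀ b ∈ B, b ^ p = 1) →
      (∀ a ∈ B, ∀ b ∈ B, a * b = b * a) → Nat.card ↥B ≤ p
  · exact prim_case hp2 hcop hirr hf N hNp hprim ha hap ha1
  push Not at hprim
  obtain ⟨B, hBn, -, hBe, hBc, hbig⟩ := hprim
  obtain ⟨ι, _, _, ⟨D0⟩⟩ := exists_decomp hcop hirr hf B hBe hBc hbig
  obtain ⟨κ, _, _, D, hD⟩ := exists_primitive _ ι rfl D0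
  obtain ⟨va, hva⟩ : ∃ v : V, a • v ≠ v := by
    by_contra hcon; push Not at hcon; exact ha1 (hf a hcon)
  by_cases hfix : ∀ i : κ, a • i = i
  · -- `a` fixes all parts
    obtain ⟨j, vj, hj⟩ : ∃ (j : κ) (v : V), a • D.e j v ≠ D.e j v := by
      by_contra hcon
      push Not at hcon
      refine hva ?_
      rw [← D.total va, Finset.smul_sum]
      exact Finset.sum_congr rfl fun i _ => hcon i va
    let V1 : AddSubgroup V := (D.e j).range
    let H1 : Subgroup H := MulAction.stabilizer H j
    have hV1 : ∀ w : V, w ∈ V1 ↔ D.e j w = w :=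
      fun w => ⟨fun ⟨u, hu⟩ => by rw [← hu]; exact D.idem j u, fun h => ⟨w, h⟩⟩
    have hinv : ∀ h ∈ H1, ∀ w ∈ V1, h • w ∈ V1 := fun h hh w hw => by
      rw [hV1] at hw ⊢
      rw [← congrArg (h • ·) hw]
      beta_reduce
      rw [D.smul, MulAction.mem_stabilizer_iff.mp hh, D.idem]
    let act1 : DistribMulAction ↥H1 ↥V1 :=
      { smul := fun h w => ⟨(h : H) • (w : V), hinv h h.2 w w.2⟩
        one_smul := fun w => Subtype.ext (one_smul H (w : V))
        mul_smul := fun g h w => Subtype.ext (mul_smul (g : H) (h : H) (w : V))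
        smul_zero := fun h => Subtype.ext (smul_zero (h : H))
        smul_add := fun h u w => Subtype.ext (smul_add (h : H) (u : V) (w : V)) }
    have hc1 : ∀ (h : ↥H1) (w : ↥V1), ((h • w : ↥V1) : V) = (h : H) • (w : V) := fun _ _ => rfl
    obtain ⟨k, hkj⟩ : ∃ k : κ, k ≠ j := Fintype.exists_ne_of_one_lt_card D.two j
    obtain ⟨uk, huk⟩ := D.ne k
    have hproper : Nat.card ↥V1 < n := by
      rw [← hn]
      refine lt_of_le_of_ne (Nat.card_le_card_of_injective _ Subtype.val_injective) fun h => huk ?_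
      have htop := AddSubgroup.eq_top_of_card_eq V1 h
      have := (hV1 (D.e k uk)).mp (htop ▸ AddSubgroup.mem_top _)
      rw [← this]
      exact D.orth j k uk (Ne.symm hkj)
    have hirr1 : Irr ↥H1 ↥V1 := by
      intro W hW
      let W' : AddSubgroup V :=
        { carrier := {v | ∀ h : H, ∃ w : ↥V1, w ∈ W ∧ (w : V) = D.e j (h • v)}
          zero_mem' := fun h => ⟨0, W.zero_mem, by simp⟩
          add_mem' := fun {u v} hu hv h => by
            obtain ⟨w1, h1, e1⟩ := hu h
            obtain ⟨w2, h2, e2⟩ := hv h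
            exact ⟨w1 + w2, W.add_mem h1 h2, by
              rw [AddSubgroup.coe_add, e1, e2, smul_add, map_add]⟩
          neg_mem' := fun {u} hu h => by
            obtain ⟨w1, h1, e1⟩ := hu h
            exact ⟨-w1, W.neg_mem h1, by rw [AddSubgroup.coe_neg, e1, smul_neg, map_neg]⟩ }
      have hWsub : ∀ w ∈ W, (w : V) ∈ W' := by
        intro w hw h
        by_cases hh : h • j = j
        · refine ⟨(⟨h, hh⟩ : ↥H1) • w, hW _ w hw, ?_⟩
          rw [hc1, (hV1 _).mp (hinv h hh _ w.2)]
        · refine ⟨0, W.zero_mem, ?_⟩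
          have e : D.e (h⁻¹ • j) (w : V) = 0 := by
            rw [← (hV1 _).mp w.2]
            exact D.orth _ j _ fun e => hh (inv_smul_eq_iff.mp e).symm
          have := D.smul h (h⁻¹ • j) (w : V)
          rw [e, smul_zero, smul_inv_smul] at this
          simpa using this
      rcases hirr W' (fun g v hv h => by rw [← mul_smul]; exact hv (h * g)) with h | h
      · left
        rw [AddSubgroup.eq_bot_iff_forall]
        exact fun w hw => Subtype.ext ((AddSubgroup.eq_bot_iff_forall _).mp h _ (hWsub w hw))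
      · right
        rw [AddSubgroup.eq_top_iff']
        intro w
        obtain ⟨w1, h1, e1⟩ := (h ▸ AddSubgroup.mem_top (w : V) : (w : V) ∈ W') 1
        rw [one_smul, (hV1 _).mp w.2] at e1
        rwa [Subtype.ext e1] at h1
    have haH1 : a ∈ H1 := hfix j
    obtain ⟨w, hw⟩ := ih _ hproper ↥H1 ↥V1 rfl
      (hcop.coprime_dvd_right (AddSubgroup.card_addSubgroup_dvd_card V1)) hirr1 (N.subgroupOf H1)
      (hN.subgroupOf H1) (hNp.comap_subtype) ⟨a, haH1⟩ ha
      (fun v => Subtype.ext (by rw [hc1]; simp [hap]))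
      ⟨⟨D.e j vj, vj, rfl⟩, fun e => hj (congrArg Subtype.val e)⟩
    let t : κ → H := fun i => if h : ∃ x : H, x • j = i then Classical.choose h else 1
    have ht : ∀ i, (∃ x : H, x • j = i) → t i • j = i := fun i hi => by
      simp only [t, dif_pos hi]; exact Classical.choose_spec hi
    refine ⟨∑ i : κ, if (∃ x : H, x • j = i) then t i • (w : V) else 0, fun g hg => ?_⟩
    set v := ∑ i : κ, if (∃ x : H, x • j = i) then t i • (w : V) else 0 with hv
    have hcompt : ∀ i, (∃ x : H, x • j = i) → D.e i v = t i • (w : V) := by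
      intro i hi
      have hei : ∀ l, (∃ x : H, x • j = l) → D.e l (t l • (w : V)) = t l • (w : V) := fun l hl => by
        conv_rhs => rw [← (hV1 _).mp w.2, D.smul, ht l hl]
      rw [hv, map_sum, Finset.sum_eq_single i]
      · rw [if_pos hi, hei i hi]
      · intro l _ hl
        by_cases h : ∃ x : H, x • j = l
        · rw [if_pos h, ← hei l h]; exact D.orth i l _ (Ne.symm hl)
        · rw [if_neg h, map_zero]
      · simp
    set i := g • j with hi
    have hia : (g * a * g⁻¹) • i = i := by
      rw [hi, ← mul_smul, inv_mul_cancel_right, mul_smul, hfix j]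
    have hiw : (g * a * g⁻¹) • t i • (w : V) = t i • (w : V) := by
      rw [← hcompt i ⟨g, rfl⟩, D.smul, hia, hg]
    have hh : (t i)⁻¹ * g ∈ H1 := by
      rw [MulAction.mem_stabilizer_iff, mul_smul, ← hi, inv_smul_eq_iff]
      exact (ht i ⟨g, rfl⟩).symm
    refine hw ⟨_, hh⟩ (Subtype.ext ?_)
    rw [hc1]
    change ((t i)⁻¹ * g * a * ((t i)⁻¹ * g)⁻¹) • (w : V) = w
    calc ((t i)⁻¹ * g * a * ((t i)⁻¹ * g)⁻¹) • (w : V) = (t i)⁻¹ • (g * a * g⁻¹) • t i • (w : V) := by
          rw [← mul_smul, ← mul_smul]; congr 1; group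
      _ = w := by rw [hiw, inv_smul_smul]
  · -- `a` moves a part
    push Not at hfix
    obtain ⟨im, him⟩ := hfix
    let Z : Subgroup H :=
      { carrier := {x | x ∈ N ∧ ∀ y ∈ N, ∀ i : κ, (x * y) • i = (y * x) • i}
        one_mem' := ⟨N.one_mem, fun y _ i => by rw [one_mul, mul_one]⟩
        mul_mem' := fun {x w} hx hw => ⟨N.mul_mem hx.1 hw.1, fun y hy i => by
          rw [mul_assoc, mul_smul x, hw.2 y hy i, ← mul_smul, ← mul_assoc, mul_smul _ w,
            hx.2 y hy, ← mul_smul, mul_assoc]⟩
        inv_mem' := fun {x} hx => ⟨N.inv_mem hx.1, fun y hy i => by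
          have e := hx.2 y hy (x⁻¹ • i)
          rw [← mul_smul, ← mul_smul, mul_inv_cancel_right] at e
          rw [mul_smul x⁻¹, inv_smul_eq_iff, ← mul_smul, ← mul_assoc]
          exact e.symm⟩ }
    have hZn : Z.Normal := ⟨fun x hx g => ⟨hN.conj_mem x hx.1 g, fun y hy i => by
      have e := hx.2 (g⁻¹ * y * g) (hN.conj_mem' y hy g) (g⁻¹ • i)
      calc (g * x * g⁻¹ * y) • i = g • (x * (g⁻¹ * y * g)) • g⁻¹ • i := by
            rw [← mul_smul, ← mul_smul]; congr 1; group
        _ = g • (g⁻¹ * y * g * x) • g⁻¹ • i := by rw [e]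
        _ = (y * (g * x * g⁻¹)) • i := by rw [← mul_smul, ← mul_smul]; congr 1; group⟩⟩
    obtain ⟨x0, hx0, i0, hx0i⟩ : ∃ x ∈ Z, ∃ i : κ, x • i ≠ i := by
      let ρ : ↥N →* Equiv.Perm κ := (MulAction.toPermHom H κ).comp N.subtype
      have hne : Nontrivial ↥ρ.range := by
        refine (Subgroup.nontrivial_iff_ne_bot _).mpr fun e => him ?_
        have h1 : ρ ⟨a, ha⟩ = 1 := mem_bot.mp (e ▸ MonoidHom.mem_range.mpr ⟨_, rfl⟩)
        exact congrArg (fun σ : Equiv.Perm κ => σ im) h1
      have := (hNp.of_surjective ρ.rangeRestrict ρ.rangeRestrict_surjective).center_nontrivial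
      obtain ⟨⟨c, hc⟩, hc1⟩ := exists_ne (1 : center ↥ρ.range)
      obtain ⟨x, rfl⟩ := ρ.rangeRestrict_surjective c
      refine ⟨x, ⟨x.2, fun y hy i => ?_⟩, ?_⟩
      · have e := mem_center_iff.mp hc (ρ.rangeRestrict ⟨y, hy⟩)
        rw [← map_mul, ← map_mul] at e
        exact (congrArg (fun σ : Equiv.Perm κ => σ i) (congrArg Subtype.val e)).symm
      · by_contra hcon
        push Not at hcon
        exact hc1 (Subtype.ext (Subtype.ext (Equiv.ext hcon)))
    have htrans : ∀ i j : κ, ∃ z ∈ Z, z • i = j :=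
      (hD Z hZn).resolve_left fun h => hx0i (h x0 hx0 i0)
    obtain ⟨u, hu⟩ := D.ne im
    refine ⟨D.e im u, fun g hg => him ?_⟩
    set b := g * a * g⁻¹ with hb
    have hbim : b • im = im := by
      by_contra hne
      refine hu ?_
      have e1 := D.smul b im (D.e im u)
      rw [D.idem, hg, D.orth (b • im) im u hne] at e1
      exact e1
    have hball : ∀ i : κ, b • i = i := fun i => by
      obtain ⟨z, hz, rfl⟩ := htrans im i
      have e := hz.2 b (hN.conj_mem a ha g) im
      rw [← mul_smul, ← e, mul_smul, hbim]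
    calc a • im = g⁻¹ • b • g • im := by rw [hb, ← mul_smul, ← mul_smul]; congr 1; group
      _ = im := by rw [hball, inv_smul_smul]

end Cfsg.Agent.WielandtOdd
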