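import Mathlib

/-!
# Averages over abelian `p`-groups acting on coprime modules

Basic tools for the orbit theorem behind the Wielandt type criterion for `O_p`.
-/

set_option autoImplicit false

namespace Cfsg.Agent.WielandtOdd

variable {H : Type*} [Group H] {V : Type*} [AddCommGroup V] [DistribMulAction H V]

/-- The only invariant subgroups are trivial. -/
def Irr (H : Type*) [Group H] (V : Type*) [AddCommGroup V] [DistribMulAction H V] : Prop :=
  ∀ W : AddSubgroup V, (∀ h : H, ∀ w ∈ W, h • w ∈ W) → W = ⊥ ∨ W = ⊤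

/-- The action is faithful. -/
def Faith (H : Type*) [Group H] (V : Type*) [AddCommGroup V] [DistribMulAction H V] : Prop :=
  ∀ h : H, (∀ v : V, h • v = v) → h = 1

/-- Points fixed by a subgroup. -/
def fixedBy' (V : Type*) [AddCommGroup V] [DistribMulAction H V] (B : Subgroup H) :
    AddSubgroup V where
  carrier := {v | ∀ b ∈ B, b • v = v}
  zero_mem' := fun b _ => smul_zero b
  add_mem' := fun {u v} hu hv b hb => by rw [smul_add, hu b hb, hv b hb]
  neg_mem' := fun {v} hv b hb => by rw [smul_neg, hv b hb]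

/-- A normal subgroup acting nontrivially fixes nothing. -/
theorem fixedBy'_eq_bot (hirr : Irr H V) (B : Subgroup H) [hB : B.Normal]
    (hne : ∃ b ∈ B, ∃ v : V, b • v ≠ v) : fixedBy' V B = ⊥ := by
  refine (hirr _ ?_).resolve_right ?_
  · intro h w hw b hb
    have h1 := hw (h⁻¹ * b * h) (hB.conj_mem' b hb h)
    calc b • h • w = h • ((h⁻¹ * b * h) • w) := by
          rw [← mul_smul, ← mul_smul]; congr 1; group
      _ = h • w := by rw [h1]
  · intro htop
    obtain ⟨b, hb, v, hv⟩ := hne
    exact hv ((htop ▸ AddSubgroup.mem_top v : v ∈ fixedBy' V B) b hb)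

theorem nsmul_inj [Finite V] {n : ℕ} (hn : n.Coprime (Nat.card V)) {v : V} (h : n • v = 0) :
    v = 0 :=
  (nsmulCoprime (G := V) hn.symm).injective
    (show n • v = n • (0 : V) by rw [h, nsmul_zero])

/-- A multiplicative inverse of `n` modulo the order of `V`. -/
theorem exists_nsmul_inv [Finite V] {n : ℕ} (hn : n.Coprime (Nat.card V)) :
    ∃ k : ℕ, ∀ v : V, k • n • v = v ∧ n • k • v = v := by
  by_cases h1 : Nat.card V = 1
  · have := (Nat.card_eq_one_iff_unique.mp h1).1
    exact ⟨0, fun v => ⟨Subsingleton.elim _ _, Subsingleton.elim _ _⟩⟩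
  · have h2 : 1 < Nat.card V := by
      have := Nat.card_pos (α := V); omega
    obtain ⟨k, -, hk⟩ := Nat.exists_mul_mod_eq_one_of_coprime hn h2
    refine ⟨k, fun v => ?_⟩
    have e : ∀ w : V, (n * k) • w = w := fun w => by
      rw [← mod_natCard_nsmul, hk, one_nsmul]
    refine ⟨?_, ?_⟩
    · rw [← mul_nsmul, e]
    · rw [← mul_nsmul', e]

/-- The sum over the first `p` powers of `g`. -/
def powSum (p : ℕ) (g : H) : V →+ V where
  toFun v := ∑ i : Fin p, g ^ (i : ℕ) • v
  map_zero' := by simp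
  map_add' u v := by simp [smul_add, Finset.sum_add_distrib]

theorem powSum_apply (p : ℕ) (g : H) (v : V) : powSum p g v = ∑ i : Fin p, g ^ (i : ℕ) • v := rfl

theorem smul_powSum {p : ℕ} [NeZero p] {g : H} {v : V} (hg : g ^ p • v = v) :
    g • powSum p g v = powSum p g v := by
  obtain ⟨m, rfl⟩ : ∃ m, p = m + 1 := ⟨p - 1, by have := NeZero.ne p; omega⟩
  rw [powSum_apply, Finset.smul_sum]
  have h1 := Fin.sum_univ_succ (f := fun i : Fin (m + 1) => g ^ (i : ℕ) • v)
  have h2 := Fin.sum_univ_castSucc (f := fun i : Fin (m + 1) => g • g ^ (i : ℕ) • v)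
  rw [h1, h2]
  simp only [Fin.val_succ, Fin.val_castSucc, Fin.val_last, Fin.val_zero, pow_zero, one_smul,
    ← mul_smul, ← pow_succ']
  rw [hg, add_comm]

theorem powSum_fixed {p : ℕ} {g : H} {v : V} (hg : g • v = v) : powSum p g v = p • v := by
  rw [powSum_apply]
  have : ∀ i : Fin p, g ^ (i : ℕ) • v = v := fun i => by
    induction (i : ℕ) with
    | zero => rw [pow_zero, one_smul]
    | succ n ih => rw [pow_succ', mul_smul, ih, hg]
  simp [this]

theorem powSum_comm {p : ℕ} {g h : H} (hgh : h * g = g * h) (v : V) :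
    powSum p g (h • v) = h • powSum p g v := by
  rw [powSum_apply, powSum_apply, Finset.smul_sum]
  refine Finset.sum_congr rfl fun i _ => ?_
  rw [← mul_smul, ← mul_smul, ((show Commute h g from hgh).pow_right (i : ℕ)).eq]

/-- If all lines of a two-generated elementary group act without fixed points, `p` kills. -/
theorem nsmul_eq_zero_of_lines {p : ℕ} [Fact p.Prime] {x y : H} (hxy : x * y = y * x) {v : V}
    (hy : ∀ k : ℕ, ¬ p ∣ k → powSum p (y ^ k) v = 0)
    (hxy' : ∀ i : Fin p, powSum p (x * y ^ (i : ℕ)) v = 0) : p • v = 0 := by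
  classical
  have hp := (Fact.out : p.Prime)
  have hcomm : Commute x y := hxy
  have hsum : ∑ i : Fin p, powSum p (x * y ^ (i : ℕ)) v = 0 :=
    Finset.sum_eq_zero fun i _ => hxy' i
  simp only [powSum_apply] at hsum
  rw [Finset.sum_comm, Finset.sum_eq_single (⟨0, hp.pos⟩ : Fin p)] at hsum
  · simpa using hsum
  · intro k _ hk
    have hk' : ¬ p ∣ (k : ℕ) := fun h => hk (Fin.ext (by
      have := Nat.eq_zero_of_dvd_of_lt h k.2; simpa using this))
    have : ∀ i : Fin p, (x * y ^ (i : ℕ)) ^ (k : ℕ) • v =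
        x ^ (k : ℕ) • (y ^ (k : ℕ)) ^ (i : ℕ) • v := fun i => by
      rw [(hcomm.pow_right _).mul_pow, mul_smul, ← pow_mul, ← pow_mul, mul_comm]
    rw [Finset.sum_congr rfl fun i _ => this i, ← Finset.smul_sum, ← powSum_apply, hy _ hk',
      smul_zero]
  · simp

/-- A decomposition of `V` into parts permuted by `H`. -/
structure Decomp (H : Type*) [Group H] (V : Type*) [AddCommGroup V] [DistribMulAction H V]
    (ι : Type*) [MulAction H ι] [Fintype ι] where
  /-- The projection to a part. -/
  e : ι → V →+ V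
  idem : ∀ i v, e i (e i v) = e i v
  orth : ∀ i j v, i ≠ j → e i (e j v) = 0
  total : ∀ v, ∑ i, e i v = v
  smul : ∀ (h : H) i v, h • e i v = e (h • i) (h • v)
  ne : ∀ i, ∃ v, e i v ≠ 0
  two : 2 ≤ Fintype.card ι

end Cfsg.Agent.WielandtOdd
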