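import Cfsg.Agent.WielandtOdd.Basic

/-!
# Faithful modules of groups of extraspecial type are large
-/

set_option autoImplicit false

namespace Cfsg.Agent.WielandtOdd

open Subgroup

variable {H : Type*} [Group H] [Finite H] {V : Type*} [AddCommGroup V] [DistribMulAction H V]
  [Finite V] {p : ℕ} [hp : Fact p.Prime]

omit [Finite H] [Finite V] in
theorem pow_conj {x y z : H} (h : y * x * y⁻¹ = x * z) (hzy : z * y = y * z) (i : ℕ) :
    y ^ i * x * (y ^ i)⁻¹ = x * z ^ i := by
  induction i with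
  | zero => simp
  | succ n ih =>
    have hc : y * z ^ n * y⁻¹ = z ^ n := by
      rw [← ((show Commute z y from hzy).pow_left n).eq, mul_inv_cancel_right]
    calc y ^ (n + 1) * x * (y ^ (n + 1))⁻¹ = y * (y ^ n * x * (y ^ n)⁻¹) * y⁻¹ := by
          rw [pow_succ']; group
      _ = y * x * y⁻¹ * (y * z ^ n * y⁻¹) := by rw [ih]; group
      _ = x * z ^ (n + 1) := by rw [h, hc, mul_assoc, ← pow_succ']

omit [Finite H] [Finite V] in
/-- A nontrivial power of a fixed point free element of order `p` has power sum zero. -/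
theorem powSum_fpf (W : AddSubgroup V) {z : H} (hzp : z ^ p = 1)
    (hW : ∀ w ∈ W, z • w ∈ W) (hfpf : ∀ w ∈ W, z • w = w → w = 0) {n : ℕ} (hn : ¬ p ∣ n)
    {w : V} (hw : w ∈ W) : powSum p (z ^ n) w = 0 := by
  have : NeZero p := ⟨hp.out.ne_zero⟩
  have hpow : ∀ m : ℕ, ∀ u ∈ W, z ^ m • u ∈ W := fun m => by
    induction m with
    | zero => intro u hu; rwa [pow_zero, one_smul]
    | succ k ih => intro u hu; rw [pow_succ', mul_smul]; exact hW _ (ih u hu)
  refine hfpf _ ?_ ?_
  · rw [powSum_apply]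
    exact AddSubgroup.sum_mem _ fun i _ => by rw [← pow_mul]; exact hpow _ w hw
  · have h1 : z ^ n • powSum p (z ^ n) w = powSum p (z ^ n) w :=
      smul_powSum (by rw [← pow_mul, mul_comm, pow_mul, hzp, one_pow, one_smul])
    obtain ⟨m, -, hm⟩ := Nat.exists_mul_mod_eq_one_of_coprime
      ((hp.out.coprime_iff_not_dvd.mpr hn).symm) hp.out.one_lt
    have h2 : ∀ i : ℕ, (z ^ n) ^ i • powSum p (z ^ n) w = powSum p (z ^ n) w := fun i => by
      induction i with
      | zero => rw [pow_zero, one_smul]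
      | succ k ih => rw [pow_succ', mul_smul, ih, h1]
    have h3 : (z ^ n) ^ m = z := by
      rw [← pow_mul, ← Nat.mod_add_div (n * m) p, hm, pow_add, pow_one, pow_mul, hzp, one_pow,
        mul_one]
    calc z • powSum p (z ^ n) w = (z ^ n) ^ m • powSum p (z ^ n) w := by rw [h3]
      _ = powSum p (z ^ n) w := h2 m

omit [Finite H] in
/-- The fixed points of `x` are a `p`-th part of the module. -/
theorem card_eq_pow (hcop : p.Coprime (Nat.card V)) (W : AddSubgroup V) {x y z : H}
    (hx : x ^ p = 1) (hy : y ^ p = 1) (hzp : z ^ p = 1) (hzx : z * x = x * z)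
    (hzy : z * y = y * z) (hc : y * x * y⁻¹ = x * z)
    (hWx : ∀ w ∈ W, x • w ∈ W) (hWy : ∀ w ∈ W, y • w ∈ W) (hWz : ∀ w ∈ W, z • w ∈ W)
    (hfpf : ∀ w ∈ W, z • w = w → w = 0) :
    Nat.card ↥W = Nat.card ↥(W ⊓ fixedBy' V (zpowers x) : AddSubgroup V) ^ p := by
  classical
  have : NeZero p := ⟨hp.out.ne_zero⟩
  obtain ⟨k, hk⟩ := exists_nsmul_inv (V := V) hcop
  set W1 : AddSubgroup V := W ⊓ fixedBy' V (zpowers x) with hW1
  have hyW : ∀ m : ℕ, ∀ u ∈ W, y ^ m • u ∈ W := fun m => by
    induction m with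
    | zero => intro u hu; rwa [pow_zero, one_smul]
    | succ j ih => intro u hu; rw [pow_succ', mul_smul]; exact hWy _ (ih u hu)
  have hxW : ∀ m : ℕ, ∀ u ∈ W, x ^ m • u ∈ W := fun m => by
    induction m with
    | zero => intro u hu; rwa [pow_zero, one_smul]
    | succ j ih => intro u hu; rw [pow_succ', mul_smul]; exact hWx _ (ih u hu)
  have key : ∀ (m : ℕ) (u : V), u ∈ W1 →
      powSum p x (y ^ m • u) = if p ∣ m then p • u else 0 := by
    intro m u hu
    have hxu : x • u = u := hu.2 x (mem_zpowers x)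
    by_cases hm : p ∣ m
    · rw [if_pos hm]
      obtain ⟨c, rfl⟩ := hm
      rw [pow_mul, hy, one_pow, one_smul, powSum_fixed hxu]
    · rw [if_neg hm]
      set r := p * (m + 1) - m with hr
      have hrm : r + m = p * (m + 1) := by
        have : m ≤ p * (m + 1) := (Nat.le_succ m).trans (Nat.le_mul_of_pos_left _ hp.out.pos)
        omega
      have hxym : ∀ l : ℕ, x ^ l • y ^ m • u = (z ^ r) ^ l • y ^ m • u := by
        intro l
        induction l with
        | zero => simp
        | succ j ih =>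
          have hcm := pow_conj hc hzy m
          have hone : x • y ^ m • u = z ^ r • y ^ m • u := by
            have e : z ^ m • x • y ^ m • u = y ^ m • u := by
              rw [← mul_smul, ((show Commute z x from hzx).pow_left m).eq, ← hcm, ← mul_smul,
                inv_mul_cancel_right, mul_smul, hxu]
            calc x • y ^ m • u = z ^ (r + m) • x • y ^ m • u := by
                  rw [hrm, pow_mul, hzp, one_pow, one_smul]
              _ = z ^ r • y ^ m • u := by rw [pow_add, mul_smul, e]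
          rw [pow_succ, mul_smul, hone, ← mul_smul,
            (((show Commute z x from hzx).pow_left r).pow_right j).symm.eq, mul_smul, ih,
            ← mul_smul, ← pow_succ']
      rw [powSum_apply, Finset.sum_congr rfl fun (l : Fin p) _ => hxym (l : ℕ), ← powSum_apply]
      refine powSum_fpf W hzp hWz hfpf ?_ (hyW m u hu.1)
      intro hd
      exact hm ((Nat.dvd_add_right hd).mp (hrm ▸ dvd_mul_right p (m + 1)))
  let Φ : (Fin p → ↥W1) → ↥W := fun f =>
    ⟨∑ i : Fin p, y ^ (i : ℕ) • (f i : V), W.sum_mem fun i _ => hyW _ _ (f i).2.1⟩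
  have hbij : Function.Bijective Φ := by
    refine ⟨fun f g hfg => ?_, fun w => ?_⟩
    · funext j
      have h0 : ∑ i : Fin p, y ^ (i : ℕ) • ((f i : V) - (g i : V)) = 0 := by
        have h := congrArg Subtype.val hfg
        change ∑ i : Fin p, y ^ (i : ℕ) • (f i : V) = ∑ i : Fin p, y ^ (i : ℕ) • (g i : V) at h
        simp only [smul_sub, Finset.sum_sub_distrib]
        rw [h, sub_self]
      have h1 : powSum p x (y ^ (p - (j : ℕ)) • ∑ i : Fin p, y ^ (i : ℕ) • ((f i : V) - (g i : V))) = 0 := by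
        rw [h0, smul_zero, map_zero]
      rw [Finset.smul_sum, map_sum, Finset.sum_eq_single j] at h1
      · rw [← mul_smul, ← pow_add, Nat.sub_add_cancel j.2.le,
          key p _ (W1.sub_mem (f j).2 (g j).2), if_pos dvd_rfl] at h1
        exact Subtype.ext (sub_eq_zero.mp (nsmul_inj hcop h1))
      · intro i _ hij
        rw [← mul_smul, ← pow_add, key _ _ (W1.sub_mem (f i).2 (g i).2), if_neg]
        intro hd
        refine hij (Fin.ext ?_)
        obtain ⟨c, hc⟩ := hd
        have hc1 : c = 1 := by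
          rcases c with _ | _ | c
          · simp at hc; omega
          · rfl
          · have h2 : p * 2 ≤ p * (c + 1 + 1) := Nat.mul_le_mul_left p (by omega)
            omega
        rw [hc1, mul_one] at hc
        omega
      · simp
    · have hfix : ∀ i : Fin p, k • powSum p x (y ^ (p - (i : ℕ)) • (w : V)) ∈ W1 := fun i => by
        refine ⟨W.nsmul_mem ?_ k, ?_⟩
        · rw [powSum_apply]
          exact W.sum_mem fun l _ => hxW _ _ (hyW _ _ w.2)
        · intro b hb
          obtain ⟨n, rfl⟩ := mem_zpowers_iff.mp hb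
          have h1 : x • (k • powSum p x (y ^ (p - (i : ℕ)) • (w : V))) =
              k • powSum p x (y ^ (p - (i : ℕ)) • (w : V)) := by
            rw [← smul_comm, smul_powSum (by rw [hx, one_smul])]
          exact (MulAction.mem_stabilizer_iff.mp
            ((MulAction.stabilizer H _).zpow_mem (MulAction.mem_stabilizer_iff.mpr h1) n))
      refine ⟨fun i => ⟨_, hfix i⟩, Subtype.ext ?_⟩
      change ∑ i : Fin p, y ^ (i : ℕ) • k • powSum p x (y ^ (p - (i : ℕ)) • (w : V)) = w
      have hterm : ∀ i l : Fin p, y ^ (i : ℕ) • x ^ (l : ℕ) • y ^ (p - (i : ℕ)) • (w : V) =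
          x ^ (l : ℕ) • (z ^ (l : ℕ)) ^ (i : ℕ) • (w : V) := by
        intro i l
        have e : y ^ (p - (i : ℕ)) = (y ^ (i : ℕ))⁻¹ := eq_inv_of_mul_eq_one_right (by
          rw [← pow_add, Nat.add_sub_cancel' i.2.le, hy])
        rw [e, ← mul_smul, ← mul_smul, ← conj_pow, pow_conj hc hzy,
          ((show Commute z x from hzx).pow_left (i : ℕ)).symm.mul_pow, mul_smul, ← pow_mul,
          mul_comm, pow_mul]
      simp only [powSum_apply, Finset.smul_sum]
      simp only [smul_comm _ k, hterm]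
      rw [Finset.sum_comm, Finset.sum_eq_single (⟨0, hp.out.pos⟩ : Fin p)]
      · simp only [pow_zero, one_pow, one_smul, Finset.sum_const, Finset.card_univ,
          Fintype.card_fin]
        exact (hk _).2
      · intro l _ hl
        rw [← Finset.smul_sum, ← Finset.smul_sum]
        rw [← powSum_apply, powSum_fpf W hzp hWz hfpf (fun h => hl (Fin.ext (by
          have := Nat.eq_zero_of_dvd_of_lt h l.2; simpa using this))) w.2, smul_zero, smul_zero]
      · simp
  rw [← Nat.card_eq_of_bijective Φ hbij, Nat.card_fun, Nat.card_fin]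

omit [Finite V] in
/-- Cosets are bounded by the values of a separating map. -/
theorem card_le_mul {D E : Subgroup H} (hED : E ≤ D) {β : Type*} [Finite β] (f : ↥D → β)
    (h : ∀ a b : ↥D, f a = f b → (a : H)⁻¹ * b ∈ E) : Nat.card ↥D ≤ Nat.card β * Nat.card ↥E := by
  classical
  have hs : ∀ a : ↥D, ∃ r : ↥D, f r = f a := fun a => ⟨a, rfl⟩
  let g : ↥D → β × ↥E := fun a => (f a,
    ⟨((Classical.choose (hs a) : ↥D) : H)⁻¹ * (a : H), h _ _ (Classical.choose_spec (hs a))⟩)
  rw [← Nat.card_prod]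
  refine Nat.card_le_card_of_injective g fun a b hab => ?_
  have h1 : f a = f b := congrArg Prod.fst hab
  have h2 := congrArg (fun q => ((Prod.snd q : ↥E) : H)) hab
  have h3 : Classical.choose (hs a) = Classical.choose (hs b) := by congr; funext r; rw [h1]
  change ((Classical.choose (hs a) : ↥D) : H)⁻¹ * (a : H) = _ * (b : H) at h2
  rw [h3] at h2
  exact Subtype.ext (mul_left_cancel h2)

/-- The bound for the faithful modules. -/
theorem extra_bound (hcop : p.Coprime (Nat.card V)) {z : H} (hz : orderOf z = p) :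
    ∀ (n : ℕ) (D : Subgroup H), Nat.card ↥D = n → z ∈ D → (∀ x ∈ D, x ^ p = 1) →
      (∀ x ∈ D, z * x = x * z) →
      (∀ x ∈ D, ∀ y ∈ D, x * y * x⁻¹ * y⁻¹ ∈ zpowers z) →
      (∀ x ∈ D, (∀ y ∈ D, x * y = y * x) → x ∈ zpowers z) →
      ∀ W : AddSubgroup V, W ≠ ⊥ → (∀ d ∈ D, ∀ w ∈ W, d • w ∈ W) →
      (∀ w ∈ W, z • w = w → w = 0) →
      ∃ m : ℕ, Nat.card ↥D ≤ p ^ (2 * m + 1) ∧ (p + 1) ^ p ^ m ≤ Nat.card ↥W := by
  classical
  have hzp : z ^ p = 1 := hz ▸ pow_orderOf_eq_one z
  intro n
  induction n using Nat.strong_induction_on with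
  | _ n ih =>
  intro D hn hzD hexp hzc hder hcen W hW hinv hfpf
  by_cases hsmall : D ≤ zpowers z
  · refine ⟨0, ?_, ?_⟩
    · refine (card_le_of_le hsmall).trans ?_
      rw [Nat.card_zpowers, hz]; simp
    · rw [pow_zero, pow_one]
      obtain ⟨w, hw, hw0⟩ : ∃ w ∈ W, w ≠ 0 := by
        by_contra hcon; push Not at hcon
        exact hW ((AddSubgroup.eq_bot_iff_forall W).mpr hcon)
      have : NeZero p := ⟨hp.out.ne_zero⟩
      have horb : ∀ i : Fin p, z ^ (i : ℕ) • w ∈ W := fun i =>
        hinv _ (D.pow_mem hzD _) w hw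
      let g : Option (Fin p) → ↥W := fun o => o.elim ⟨0, W.zero_mem⟩ fun i => ⟨_, horb i⟩
      have hginj : Function.Injective g := by
        intro a b hab
        have hab' := congrArg Subtype.val hab
        have hnz : ∀ i : ℕ, z ^ i • w ≠ 0 := fun i h => hw0 (by
          rw [← inv_smul_smul (z ^ i) w, h, smul_zero])
        have hlt : ∀ i j : Fin p, (i : ℕ) < j → z ^ (i : ℕ) • w ≠ z ^ (j : ℕ) • w := by
          intro i j hij h
          have h1 : z ^ ((j : ℕ) - i) • w = w := by
            apply MulAction.injective (z ^ (i : ℕ))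
            beta_reduce
            rw [← mul_smul, ← pow_add, Nat.add_sub_cancel' hij.le, h]
          have h2 := powSum_fixed (p := p) h1
          rw [powSum_fpf W hzp (hinv z hzD) hfpf
            (Nat.not_dvd_of_pos_of_lt (by omega) (by have := j.2; omega)) hw] at h2
          exact hw0 (nsmul_inj hcop h2.symm)
        rcases a with _ | a <;> rcases b with _ | b
        · rfl
        · exact absurd hab'.symm (hnz b)
        · exact absurd hab' (hnz a)
        · rcases lt_trichotomy (a : ℕ) (b : ℕ) with h | h | h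
          · exact absurd hab' (hlt a b h)
          · rw [Fin.ext h]
          · exact absurd hab'.symm (hlt b a h)
      have := Nat.card_le_card_of_injective g hginj
      rwa [Finite.card_option, Nat.card_fin] at this
  obtain ⟨x, hxD, hxz⟩ := SetLike.not_le_iff_exists.mp hsmall
  obtain ⟨y0, hy0D, hy0⟩ : ∃ y ∈ D, x * y ≠ y * x := by
    by_contra hcon; push Not at hcon; exact hxz (hcen x hxD hcon)
  -- normalise the commutator
  obtain ⟨y, hyD, hyx⟩ : ∃ y ∈ D, y * x * y⁻¹ = x * z := by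
    obtain ⟨c, hc⟩ := mem_zpowers_iff.mp (hder y0 hy0D x hxD)
    have hcpos : ∃ c' : ℕ, z ^ c' = z ^ c := by
      have : z ^ c ∈ Submonoid.powers z := (mem_powers_iff_mem_zpowers).mpr (zpow_mem (mem_zpowers z) c)
      exact this
    obtain ⟨c', hc'⟩ := hcpos
    rw [← hc'] at hc
    have hb : y0 * x * y0⁻¹ = x * z ^ c' := by
      rw [← ((show Commute z x from hzc x hxD).pow_left c').eq, hc, inv_mul_cancel_right]
    have hndvd : ¬ p ∣ c' := by
      rintro ⟨d, rfl⟩
      rw [pow_mul, hzp, one_pow, mul_one, mul_inv_eq_iff_eq_mul] at hb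
      exact hy0 hb.symm
    obtain ⟨d, -, hd⟩ := Nat.exists_mul_mod_eq_one_of_coprime
      ((hp.out.coprime_iff_not_dvd.mpr hndvd).symm) hp.out.one_lt
    refine ⟨y0 ^ d, D.pow_mem hy0D d, ?_⟩
    rw [pow_conj hb (((show Commute z y0 from hzc y0 hy0D).pow_left c').eq), ← pow_mul,
      ← Nat.mod_add_div (c' * d) p, hd, pow_add, pow_one, pow_mul, hzp, one_pow, mul_one]
  set E : Subgroup H := D ⊓ centralizer ({x, y} : Set H) with hE
  have hEmem : ∀ d, d ∈ E ↔ d ∈ D ∧ x * d = d * x ∧ y * d = d * y := by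
    intro d
    rw [hE, mem_inf, mem_centralizer_iff]
    simp
  have hxy : ¬ (y * x = x * y) := fun h => by
    rw [h, mul_inv_cancel_right] at hyx
    have hz1 : z = 1 := by simpa using hyx.symm
    rw [hz1, orderOf_one] at hz
    exact hp.out.ne_one hz.symm
  have hlt : Nat.card ↥E < n := by
    rw [← hn]
    refine lt_of_le_of_ne (card_le_of_le inf_le_left) fun h => hxy ?_
    have hEq : E = D := eq_of_le_of_card_ge inf_le_left h.ge
    exact ((hEmem x).mp (hEq ▸ hxD : x ∈ E)).2.2
  -- centre of `E`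
  have hxy' : x * y * x⁻¹ = y * z⁻¹ := by
    calc x * y * x⁻¹ = y * (y⁻¹ * (x * y * x⁻¹)) := by rw [mul_inv_cancel_left]
      _ = y * z⁻¹ := by
        congr 1
        rw [eq_inv_iff_mul_eq_one]
        calc y⁻¹ * (x * y * x⁻¹) * z = y⁻¹ * x * y * x⁻¹ * (x⁻¹ * (x * z)) := by group
          _ = y⁻¹ * x * y * x⁻¹ * (x⁻¹ * (y * x * y⁻¹)) := by rw [hyx]
          _ = 1 := by
            have e : x⁻¹ * (y * x * y⁻¹) = z := by rw [hyx, inv_mul_cancel_left]
            rw [e]
            calc y⁻¹ * x * y * x⁻¹ * z = y⁻¹ * x * y * (x⁻¹ * z) := by group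
              _ = y⁻¹ * x * y * (z * x⁻¹) := by
                rw [((show Commute z x from hzc x hxD).inv_right).eq]
              _ = y⁻¹ * x * (y * z) * x⁻¹ := by group
              _ = y⁻¹ * (x * z) * y * x⁻¹ := by rw [← hzc y hyD]; group
              _ = 1 := by rw [← hyx]; group
  have hEcen : ∀ c ∈ E, (∀ d ∈ E, c * d = d * c) → c ∈ zpowers z := by
    intro c hc hcc
    obtain ⟨hcD, hcx, hcy⟩ := (hEmem c).mp hc
    refine hcen c hcD fun d hd => ?_
    obtain ⟨s, hs⟩ := mem_zpowers_iff.mp (hder d hd x hxD)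
    obtain ⟨t, ht⟩ := mem_zpowers_iff.mp (hder d hd y hyD)
    have hdx : d * x * d⁻¹ = z ^ s * x := by rw [hs, inv_mul_cancel_right]
    have hdy : d * y * d⁻¹ = z ^ t * y := by rw [ht, inv_mul_cancel_right]
    have hzx : Commute z x := hzc x hxD
    have hzy : Commute z y := hzc y hyD
    have hyz : ∀ a : ℤ, y ^ a * x * (y ^ a)⁻¹ = x * z ^ a := by
      intro a
      induction a using Int.induction_on with
      | zero => simp
      | succ j ihj =>
        calc y ^ ((j : ℤ) + 1) * x * (y ^ ((j : ℤ) + 1))⁻¹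
            = y * (y ^ (j : ℤ) * x * (y ^ (j : ℤ))⁻¹) * y⁻¹ := by group
          _ = y * x * y⁻¹ * (y * z ^ (j : ℤ) * y⁻¹) := by rw [ihj]; group
          _ = x * z ^ ((j : ℤ) + 1) := by
            rw [hyx, ← (hzy.zpow_left (j : ℤ)).eq, mul_inv_cancel_right, mul_assoc, ← zpow_one_add,
              add_comm]
      | pred j ihj =>
        calc y ^ (-(j : ℤ) - 1) * x * (y ^ (-(j : ℤ) - 1))⁻¹
            = y⁻¹ * (y ^ (-(j : ℤ)) * x * (y ^ (-(j : ℤ)))⁻¹) * y := by group
          _ = y⁻¹ * (x * z ^ (-(j : ℤ))) * y := by rw [ihj]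
          _ = y⁻¹ * (y * x * y⁻¹ * z⁻¹ * z ^ (-(j : ℤ))) * y := by
            rw [hyx, mul_inv_cancel_right]
          _ = x * (y⁻¹ * z ^ (-(j : ℤ) - 1) * y) := by group
          _ = x * z ^ (-(j : ℤ) - 1) := by
            rw [← (hzy.inv_right.zpow_left (-(j : ℤ) - 1)).eq, inv_mul_cancel_right]
    have hxz' : ∀ a : ℤ, x ^ a * y * (x ^ a)⁻¹ = y * z ^ (-a) := by
      intro a
      induction a using Int.induction_on with
      | zero => simp
      | succ j ihj =>
        calc x ^ ((j : ℤ) + 1) * y * (x ^ ((j : ℤ) + 1))⁻¹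
            = x * (x ^ (j : ℤ) * y * (x ^ (j : ℤ))⁻¹) * x⁻¹ := by group
          _ = x * y * x⁻¹ * (x * z ^ (-(j : ℤ)) * x⁻¹) := by rw [ihj]; group
          _ = y * z ^ (-((j : ℤ) + 1)) := by
            rw [hxy', ← (hzx.zpow_left (-(j : ℤ))).eq, mul_inv_cancel_right, mul_assoc,
              ← zpow_neg_one, ← zpow_add]
            congr 2; omega
      | pred j ihj =>
        calc x ^ (-(j : ℤ) - 1) * y * (x ^ (-(j : ℤ) - 1))⁻¹
            = x⁻¹ * (x ^ (-(j : ℤ)) * y * (x ^ (-(j : ℤ)))⁻¹) * x := by group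
          _ = x⁻¹ * (y * z ^ (-(-(j : ℤ)))) * x := by rw [ihj]
          _ = x⁻¹ * (x * y * x⁻¹ * z * z ^ (-(-(j : ℤ)))) * x := by
            rw [hxy', inv_mul_cancel_right]
          _ = y * (x⁻¹ * z ^ (-(-(j : ℤ) - 1)) * x) := by group
          _ = y * z ^ (-(-(j : ℤ) - 1)) := by
            rw [← (hzx.inv_right.zpow_left (-(-(j : ℤ) - 1))).eq, inv_mul_cancel_right]
    set r := y ^ (-s) * x ^ t * d with hr
    have hrE : r ∈ E := by
      rw [hEmem]
      refine ⟨D.mul_mem (D.mul_mem (D.zpow_mem hyD _) (D.zpow_mem hxD _)) hd, ?_, ?_⟩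
      · symm; rw [← mul_inv_eq_iff_eq_mul]
        calc r * x * r⁻¹ = y ^ (-s) * (x ^ t * (d * x * d⁻¹) * (x ^ t)⁻¹) * (y ^ (-s))⁻¹ := by
              rw [hr]; group
          _ = y ^ (-s) * (z ^ s * x) * (y ^ (-s))⁻¹ := by
              rw [hdx, show x ^ t * (z ^ s * x) * (x ^ t)⁻¹ = z ^ s * x from by
                rw [← mul_assoc (x ^ t), ← (hzx.zpow_zpow s t).eq]; group]
          _ = z ^ s * (y ^ (-s) * x * (y ^ (-s))⁻¹) := by
              rw [← mul_assoc, ← (hzy.zpow_zpow s (-s)).eq]; group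
          _ = x := by
              rw [hyz, ← mul_assoc, (hzx.zpow_left s).eq, mul_assoc, ← zpow_add, add_neg_cancel,
                zpow_zero, mul_one]
      · symm; rw [← mul_inv_eq_iff_eq_mul]
        calc r * y * r⁻¹ = y ^ (-s) * (x ^ t * (d * y * d⁻¹) * (x ^ t)⁻¹) * (y ^ (-s))⁻¹ := by
              rw [hr]; group
          _ = y ^ (-s) * (z ^ t * (x ^ t * y * (x ^ t)⁻¹)) * (y ^ (-s))⁻¹ := by
              rw [hdy, ← mul_assoc (x ^ t), ← (hzx.zpow_zpow t t).eq]; group
          _ = y := by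
              rw [hxz', ← mul_assoc (z ^ t), (hzy.zpow_left t).eq, mul_assoc y, ← zpow_add,
                add_neg_cancel, zpow_zero, mul_one]
              group
    have h1 := hcc r hrE
    have cy : Commute c (y ^ (-s)) := (Commute.zpow_left hcy (-s)).symm
    have cx : Commute c (x ^ t) := (Commute.zpow_left hcx t).symm
    have e : d = (x ^ t)⁻¹ * (y ^ (-s))⁻¹ * r := by rw [hr]; group
    rw [e]
    exact ((cx.inv_right.mul_right cy.inv_right).mul_right h1).eq
  set W1 : AddSubgroup V := W ⊓ fixedBy' V (zpowers x) with hW1def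
  have hWc : Nat.card ↥W = Nat.card ↥W1 ^ p := card_eq_pow hcop W (hexp x hxD) (hexp y hyD) hzp
    (hzc x hxD) (hzc y hyD) hyx (hinv x hxD) (hinv y hyD) (hinv z hzD) hfpf
  have hW1 : W1 ≠ ⊥ := fun h => by
    rw [h, AddSubgroup.card_bot, one_pow] at hWc
    exact hW (AddSubgroup.card_eq_one.mp hWc)
  obtain ⟨m, hm1, hm2⟩ := ih _ hlt E rfl ((hEmem z).mpr ⟨hzD, (hzc x hxD).symm, (hzc y hyD).symm⟩)
    (fun d hd => hexp d ((hEmem d).mp hd).1) (fun d hd => hzc d ((hEmem d).mp hd).1)
    (fun a ha b hb => hder a ((hEmem a).mp ha).1 b ((hEmem b).mp hb).1) hEcen W1 hW1 (by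
      rintro d hd w ⟨hw1, hw2⟩
      obtain ⟨hdD, hdx, -⟩ := (hEmem d).mp hd
      refine ⟨hinv d hdD w hw1, fun b hb => ?_⟩
      obtain ⟨i, rfl⟩ := mem_zpowers_iff.mp hb
      rw [← mul_smul, ((show Commute x d from hdx).zpow_left i).eq, mul_smul,
        hw2 _ (zpow_mem (mem_zpowers x) i)])
    (fun w hw => hfpf w hw.1)
  refine ⟨m + 1, ?_, ?_⟩
  · have hle := card_le_mul (E := E) (D := D) inf_le_left
      (fun d : ↥D => ((⟨_, hder d d.2 x hxD⟩ : ↥(zpowers z)), (⟨_, hder d d.2 y hyD⟩ : ↥(zpowers z))))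
      (fun a b hab => by
        obtain ⟨e1, e2⟩ := Prod.ext_iff.mp hab
        replace e1 := congrArg Subtype.val e1
        replace e2 := congrArg Subtype.val e2
        simp only [mul_left_inj] at e1 e2
        rw [hEmem]
        refine ⟨D.mul_mem (D.inv_mem a.2) b.2, ?_, ?_⟩
        · symm; rw [← mul_inv_eq_iff_eq_mul]
          calc (a : H)⁻¹ * b * x * ((a : H)⁻¹ * b)⁻¹ = (a : H)⁻¹ * ((b : H) * x * (b : H)⁻¹) * a := by
                group
            _ = x := by rw [← e1]; group
        · symm; rw [← mul_inv_eq_iff_eq_mul]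
          calc (a : H)⁻¹ * b * y * ((a : H)⁻¹ * b)⁻¹ = (a : H)⁻¹ * ((b : H) * y * (b : H)⁻¹) * a := by
                group
            _ = y := by rw [← e2]; group)
    rw [Nat.card_prod, Nat.card_zpowers, hz] at hle
    refine hle.trans ((Nat.mul_le_mul_left _ hm1).trans_eq ?_)
    ring
  · rw [hWc, pow_succ, pow_mul]
    exact Nat.pow_le_pow_left hm2 p

end Cfsg.Agent.WielandtOdd
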