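import Cfsg.Agent.WielandtOdd.Bound
import Cfsg.Agent.SymplecticType.Main
import Cfsg.Agent.Fusion.UniqueInvolution
import Cfsg.Agent.Core.Frattini

/-!
# The primitive case: every normal elementary abelian `p`-subgroup is cyclic
-/

set_option autoImplicit false

namespace Cfsg.Agent.WielandtOdd

open Subgroup
open scoped commutatorElement

universe u

variable {H : Type u} [Group H] [Finite H] {V : Type u} [AddCommGroup V] [DistribMulAction H V]
  [Finite V] {p : ℕ} [hp : Fact p.Prime]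

/-- The numerical contradiction. -/
theorem arith {p m w : ℕ} (hp : p.Prime) (hp2 : p ≠ 2) (hm : m ≠ 0)
    (hw : (p + 1) ^ p ^ m ≤ w ^ p) (h : (p - 1) * (w ^ p - 1) ≤ p ^ (2 * m + 1) * (w - 1)) :
    False := by
  have hp3 : 3 ≤ p := by have := hp.two_le; omega
  have h2w : 2 ≤ w := by
    by_contra hlt
    have h1 : w ^ p ≤ 1 := by
      calc w ^ p ≤ 1 ^ p := Nat.pow_le_pow_left (by omega) p
        _ = 1 := one_pow p
    have h2 : (p + 1) ^ 1 ≤ (p + 1) ^ p ^ m :=
      Nat.pow_le_pow_right (by omega) (Nat.one_le_pow _ _ (by omega))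
    rw [pow_one] at h2
    omega
  obtain ⟨k, rfl⟩ : ∃ k, m = k + 1 := ⟨m - 1, by omega⟩
  have hwb : (p + 1) ^ p ^ k ≤ w := by
    refine (Nat.pow_le_pow_iff_left hp.ne_zero).mp ?_
    rw [← pow_mul, ← pow_succ]
    exact hw
  have hgeom : w ^ (p - 1) * (w - 1) ≤ w ^ p - 1 := by
    rw [Nat.mul_sub, mul_one, ← pow_succ, Nat.sub_add_cancel (by omega : 1 ≤ p)]
    exact Nat.sub_le_sub_left (Nat.one_le_pow _ _ (by omega)) _
  have h3 : (p - 1) * w ^ (p - 1) ≤ p ^ (2 * (k + 1) + 1) := by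
    refine Nat.le_of_mul_le_mul_right ?_ (by omega : 0 < w - 1)
    rw [mul_assoc]
    exact (Nat.mul_le_mul_left _ hgeom).trans h
  have h4 : (p - 1) * ((p + 1) ^ p ^ k) ^ (p - 1) ≤ p ^ (2 * (k + 1) + 1) :=
    (Nat.mul_le_mul_left _ (Nat.pow_le_pow_left hwb _)).trans h3
  rw [← pow_mul] at h4
  have h6 : 2 * (p + 1) ^ (p ^ k * (p - 1)) ≤ p ^ (2 * (k + 1) + 1) :=
    (Nat.mul_le_mul_right _ (by omega : 2 ≤ p - 1)).trans h4
  rcases Nat.eq_zero_or_pos k with rfl | hk
  · rw [pow_zero, one_mul] at h6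
    rcases (by omega : p = 3 ∨ 4 ≤ p) with rfl | hp4
    · norm_num at h6
    · have h7 : (p + 1) ^ (2 * (0 + 1) + 1) ≤ (p + 1) ^ (p - 1) :=
        Nat.pow_le_pow_right (by omega) (by omega)
      have h8 : p ^ (2 * (0 + 1) + 1) < (p + 1) ^ (2 * (0 + 1) + 1) :=
        Nat.pow_lt_pow_left (by omega) (by omega)
      omega
  · have h9 : k + 2 ≤ p ^ k := by
      clear h3 h4 h6 h hw hwb hgeom hm
      induction k with
      | zero => omega
      | succ j ih =>
        rcases Nat.eq_zero_or_pos j with rfl | hj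
        · simpa using hp3
        · have := ih hj
          have : 3 * p ^ j ≤ p ^ (j + 1) := by rw [pow_succ']; exact Nat.mul_le_mul_right _ hp3
          omega
    have h10 : 2 * (k + 1) + 1 ≤ p ^ k * (p - 1) := by
      have := Nat.mul_le_mul h9 (by omega : 2 ≤ p - 1)
      omega
    have h7 : (p + 1) ^ (2 * (k + 1) + 1) ≤ (p + 1) ^ (p ^ k * (p - 1)) :=
      Nat.pow_le_pow_right (by omega) h10
    have h8 : p ^ (2 * (k + 1) + 1) < (p + 1) ^ (2 * (k + 1) + 1) :=
      Nat.pow_lt_pow_left (by omega) (by omega)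
    omega

omit [Finite V] in
/-- In a group of exponent `p` with derived group in `⟨z⟩` noncentral elements have partners. -/
theorem exists_partner {D : Subgroup H} {z : H} (hz : orderOf z = p)
    (hzc : ∀ x ∈ D, z * x = x * z)
    (hder : ∀ x ∈ D, ∀ y ∈ D, x * y * x⁻¹ * y⁻¹ ∈ zpowers z) {x : H} (hxD : x ∈ D)
    (hnc : ∃ y ∈ D, x * y ≠ y * x) : ∃ y ∈ D, y * x * y⁻¹ = x * z := by
  have hzp : z ^ p = 1 := hz ▸ pow_orderOf_eq_one z
  obtain ⟨y0, hy0D, hy0⟩ := hnc
  obtain ⟨c', hc⟩ := mem_powers_iff_mem_zpowers.mpr (hder y0 hy0D x hxD)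
  have hb : y0 * x * y0⁻¹ = x * z ^ c' := by
    rw [← ((show Commute z x from hzc x hxD).pow_left c').eq]
    change z ^ c' = _ at hc
    rw [hc, inv_mul_cancel_right]
  have hndvd : ¬ p ∣ c' := by
    rintro ⟨d, rfl⟩
    rw [pow_mul, hzp, one_pow, mul_one, mul_inv_eq_iff_eq_mul] at hb
    exact hy0 hb.symm
  obtain ⟨d, -, hd⟩ := Nat.exists_mul_mod_eq_one_of_coprime
    ((hp.out.coprime_iff_not_dvd.mpr hndvd).symm) hp.out.one_lt
  refine ⟨y0 ^ d, D.pow_mem hy0D d, ?_⟩
  rw [pow_conj hb (((show Commute z y0 from hzc y0 hy0D).pow_left c').eq), ← pow_mul,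
    ← Nat.mod_add_div (c' * d) p, hd, pow_add, pow_one, pow_mul, hzp, one_pow, mul_one]

omit [Finite V] in
/-- A normal `p`-subgroup with no large elementary abelian normal subgroup of `H` inside. -/
theorem exists_frame (hp2 : p ≠ 2) (N : Subgroup H) [hN : N.Normal] (hNp : IsPGroup p N)
    (hprim : ∀ B : Subgroup H, B.Normal → B ≤ N → (∀ b ∈ B, b ^ p = 1) →
      (∀ a ∈ B, ∀ b ∈ B, a * b = b * a) → Nat.card ↥B ≤ p)
    {a : H} (haN : a ∈ N) (hap : a ^ p = 1) (hnc : ∃ y ∈ N, a * y ≠ y * a) :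
    ∃ (z : H) (D : Subgroup H), orderOf z = p ∧ (zpowers z).Normal ∧ z ∈ D ∧
      (∀ x ∈ D, x ^ p = 1) ∧ (∀ x ∈ D, z * x = x * z) ∧
      (∀ x ∈ D, ∀ y ∈ D, x * y * x⁻¹ * y⁻¹ ∈ zpowers z) ∧
      (∀ x ∈ D, (∀ y ∈ D, x * y = y * x) → x ∈ zpowers z) ∧ a ∈ D ∧ D.Normal ∧
      (∀ y ∈ N, z * y = y * z) := by
  classical
  -- central elements of exponent `p`
  let Ω : Subgroup H :=
    { carrier := {x | x ∈ N ∧ x ^ p = 1 ∧ ∀ y ∈ N, x * y = y * x}
      one_mem' := ⟨N.one_mem, one_pow p, fun y _ => by simp⟩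
      mul_mem' := fun {x w} hx hw => ⟨N.mul_mem hx.1 hw.1, by
          rw [(show Commute x w from hx.2.2 w hw.1).mul_pow, hx.2.1, hw.2.1, mul_one],
        fun y hy => ((show Commute x y from hx.2.2 y hy).mul_left (hw.2.2 y hy)).eq⟩
      inv_mem' := fun {x} hx => ⟨N.inv_mem hx.1, by rw [inv_pow, hx.2.1, inv_one],
        fun y hy => (show Commute x y from hx.2.2 y hy).inv_left.eq⟩ }
  have hΩn : Ω.Normal := ⟨fun x hx g => ⟨hN.conj_mem x hx.1 g, by
    rw [conj_pow, hx.2.1, mul_one, mul_inv_cancel], fun y hy => by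
    have e := hx.2.2 _ (hN.conj_mem' y hy g)
    calc g * x * g⁻¹ * y = g * (x * (g⁻¹ * y * g)) * g⁻¹ := by group
      _ = g * (g⁻¹ * y * g * x) * g⁻¹ := by rw [e]
      _ = y * (g * x * g⁻¹) := by group⟩⟩
  have hΩcard : Nat.card ↥Ω ≤ p :=
    hprim Ω hΩn (fun x hx => hx.1) (fun x hx => hx.2.1) fun x hx y hy => hx.2.2 y hy.1
  obtain ⟨y0, hy0N, hy0⟩ := hnc
  have hnab : ¬ IsMulCommutative ↥N := fun h =>
    hy0 (congrArg Subtype.val (h.is_comm.comm ⟨a, haN⟩ ⟨y0, hy0N⟩))
  -- the symplectic type structure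
  have hsymp : ∀ A : Subgroup ↥N, A.Characteristic → IsMulCommutative A → IsCyclic A := by
    intro A hA hAc
    have hAp : IsPGroup p A := hNp.to_subgroup A
    have hn : (A.map N.subtype).Normal := inferInstance
    refine ((Fusion.cyclic_or_quaternion_of_unique hAp fun C D hC hD => ?_).resolve_right
      fun h => hp2 h.1)
    let Ω' : Subgroup H :=
      { carrier := {x | x ∈ A.map N.subtype ∧ x ^ p = 1}
        one_mem' := ⟨one_mem _, one_pow p⟩
        mul_mem' := by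
          rintro x w ⟨⟨x', hx', rfl⟩, hxp⟩ ⟨⟨w', hw', rfl⟩, hwp⟩
          refine ⟨mul_mem (mem_map_of_mem _ hx') (mem_map_of_mem _ hw'), ?_⟩
          have e := congrArg Subtype.val (congrArg Subtype.val
            (hAc.is_comm.comm ⟨x', hx'⟩ ⟨w', hw'⟩))
          rw [(show Commute (N.subtype x') (N.subtype w') from e).mul_pow, hxp, hwp, mul_one]
        inv_mem' := fun {x} hx => ⟨inv_mem hx.1, by rw [inv_pow, hx.2, inv_one]⟩ }
    have hΩ' : Nat.card ↥Ω' ≤ p := by
      refine hprim Ω' ⟨fun x hx g => ⟨hn.conj_mem x hx.1 g, ?_⟩⟩ (fun x hx => map_subtype_le A hx.1)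
        (fun x hx => hx.2) ?_
      · rw [conj_pow, hx.2, mul_one, mul_inv_cancel]
      · rintro x ⟨⟨x', hx', rfl⟩, -⟩ w ⟨⟨w', hw', rfl⟩, -⟩
        exact congrArg Subtype.val (congrArg Subtype.val (hAc.is_comm.comm ⟨x', hx'⟩ ⟨w', hw'⟩))
    have key : ∀ C : Subgroup ↥A, Nat.card ↥C = p →
        (C.map A.subtype).map N.subtype = Ω' := by
      intro C hC
      have hle : (C.map A.subtype).map N.subtype ≤ Ω' := by
        rintro _ ⟨_, ⟨c, hc, rfl⟩, rfl⟩
        refine ⟨mem_map_of_mem _ c.2, ?_⟩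
        have h1 : orderOf (⟨c, hc⟩ : ↥C) ∣ p := by
          have := orderOf_dvd_natCard (⟨c, hc⟩ : ↥C)
          rwa [hC] at this
        rw [Subgroup.orderOf_mk] at h1
        rw [← map_pow, ← map_pow, orderOf_dvd_iff_pow_eq_one.mp h1, map_one, map_one]
      refine eq_of_le_of_card_ge hle ?_
      rw [card_map_of_injective N.subtype_injective, card_map_of_injective A.subtype_injective, hC]
      exact hΩ'
    exact map_injective A.subtype_injective (map_injective N.subtype_injective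
      ((key C hC).trans (key D hD).symm))
  obtain ⟨E, R, hER, hsup, hE, hR⟩ := SymplecticType.hall (G := ↥N) hNp hsymp
  replace hR : IsCyclic R := hR.resolve_right fun h => hp2 h.1
  have hRc : ∀ x ∈ R, ∀ y ∈ R, x * y = y * x := fun x hx y hy => by
    have := hR.isMulCommutative
    exact congrArg Subtype.val (this.is_comm.comm ⟨x, hx⟩ ⟨y, hy⟩)
  have hRcent : R ≤ center ↥N := fun r hr => mem_center_iff.mpr fun g => by
    have h : E ⊔ R ≤ centralizer ({r} : Set ↥N) := sup_le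
      (fun e he => mem_centralizer_singleton_iff.mpr (hER e he r hr))
      (fun r' hr' => mem_centralizer_singleton_iff.mpr (hRc r' hr' r hr))
    exact mem_centralizer_singleton_iff.mp (h (hsup ▸ mem_top g))
  have hEne : E ≠ ⊥ := fun e => hnab (by
    rw [e, bot_sup_eq] at hsup
    exact ⟨⟨fun x y => hRc x (hsup ▸ mem_top x) y (hsup ▸ mem_top y)⟩⟩)
  obtain ⟨⟨hEp, hEF, hED⟩, hEZ⟩ := hE.resolve_left hEne
  have hRn : R.Normal := ⟨fun r hr g => by
    rwa [mem_center_iff.mp (hRcent hr) g, mul_inv_cancel_right]⟩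
  obtain ⟨zE, hzE⟩ := exists_prime_orderOf_dvd_card' p (hEZ.symm.dvd : p ∣ Nat.card (center ↥E))
  set z : H := (((zE : ↥E) : ↥N) : H) with hzdef
  have hzo : orderOf z = p := by
    rw [hzdef, Subgroup.orderOf_coe, Subgroup.orderOf_coe, Subgroup.orderOf_coe, hzE]
  have hzN : z ∈ N := (((zE : ↥E) : ↥N)).2
  have hzcent : ∀ y ∈ N, z * y = y * z := by
    intro y hy
    have h : E ⊔ R ≤ centralizer ({((zE : ↥E) : ↥N)} : Set ↥N) := sup_le
      (fun e he => mem_centralizer_singleton_iff.mpr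
        (congrArg Subtype.val (mem_center_iff.mp zE.2 ⟨e, he⟩)))
      (fun r hr => mem_centralizer_singleton_iff.mpr
        (hER _ (zE : ↥E).2 r hr).symm)
    exact (congrArg Subtype.val
      (mem_centralizer_singleton_iff.mp (h (hsup ▸ mem_top (⟨y, hy⟩ : ↥N))))).symm
  have hzle : zpowers z ≤ Ω := zpowers_le.mpr ⟨hzN, hzo ▸ pow_orderOf_eq_one z, hzcent⟩
  have hzΩ : zpowers z = Ω := eq_of_le_of_card_ge hzle (by rw [Nat.card_zpowers, hzo]; exact hΩcard)
  have hcentZ : ∀ c : ↥(center ↥E), (((c : ↥E) : ↥N) : H) ∈ zpowers z := by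
    intro c
    have hzp : zpowers zE = (⊤ : Subgroup ↥(center ↥E)) :=
      eq_top_of_card_eq _ (by rw [Nat.card_zpowers, hzE, hEZ])
    obtain ⟨k, hk⟩ := mem_zpowers_iff.mp (hzp ▸ mem_top c : c ∈ zpowers zE)
    exact ⟨k, by rw [← hk, hzdef]; push_cast; rfl⟩
  have hzn : (zpowers z).Normal := hzΩ ▸ hΩn
  let D : Subgroup H :=
    { carrier := {x | x ∈ N ∧ x ^ p = 1 ∧ ∀ y ∈ N, x * y * x⁻¹ * y⁻¹ ∈ zpowers z}
      one_mem' := ⟨N.one_mem, one_pow p, fun y _ => by simp⟩
      mul_mem' := fun {x w} hx hw => by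
        have hcomm : ∀ y ∈ N, x * w * y * (x * w)⁻¹ * y⁻¹ ∈ zpowers z := fun y hy => by
          have e : x * w * y * (x * w)⁻¹ * y⁻¹ =
              x * (w * y * w⁻¹ * y⁻¹) * x⁻¹ * (x * y * x⁻¹ * y⁻¹) := by group
          rw [e]
          exact mul_mem (hzn.conj_mem _ (hw.2.2 y hy) x) (hx.2.2 y hy)
        refine ⟨N.mul_mem hx.1 hw.1, ?_, hcomm⟩
        set c := w * x * w⁻¹ * x⁻¹ with hc
        have hcz : c ∈ zpowers z := hw.2.2 x hx.1
        have hcc : ∀ y ∈ N, Commute c y := fun y hy => (hzle hcz).2.2 y hy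
        have hcp : c ^ p = 1 := (hzle hcz).2.1
        have hwx : w * x = c * (x * w) := by rw [hc]; group
        have hwk : ∀ k : ℕ, w ^ k * x = c ^ k * (x * w ^ k) := by
          intro k
          induction k with
          | zero => simp
          | succ j ihj =>
            calc w ^ (j + 1) * x = w * (w ^ j * x) := by rw [pow_succ', mul_assoc]
              _ = w * (c ^ j * (x * w ^ j)) := by rw [ihj]
              _ = c ^ j * w * (x * w ^ j) := by
                rw [← mul_assoc, ((hcc w hw.1).pow_left j).eq]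
              _ = c ^ j * (w * x) * w ^ j := by simp only [mul_assoc]
              _ = c ^ (j + 1) * (x * w ^ (j + 1)) := by
                rw [hwx, pow_succ, pow_succ']; simp only [mul_assoc]
        have hpow : ∀ k : ℕ, (x * w) ^ k = c ^ k.choose 2 * (x ^ k * w ^ k) := by
          intro k
          induction k with
          | zero => simp
          | succ j ihj =>
            calc (x * w) ^ (j + 1) = c ^ j.choose 2 * (x ^ j * w ^ j) * (x * w) := by
                  rw [pow_succ, ihj]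
              _ = c ^ j.choose 2 * x ^ j * (w ^ j * x) * w := by simp only [mul_assoc]
              _ = c ^ j.choose 2 * (x ^ j * c ^ j) * (x * w ^ j) * w := by
                rw [hwk]; simp only [mul_assoc]
              _ = c ^ j.choose 2 * (c ^ j * x ^ j) * (x * w ^ j) * w := by
                rw [((hcc x hx.1).pow_pow j j).eq]
              _ = c ^ (j + 1).choose 2 * (x ^ (j + 1) * w ^ (j + 1)) := by
                rw [Nat.choose_succ_succ, Nat.choose_one_right, add_comm j, pow_add, pow_succ x,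
                  pow_succ w]
                simp only [mul_assoc]
        have hdvd : p ∣ p.choose 2 := hp.out.dvd_choose_self two_ne_zero
          (lt_of_le_of_ne hp.out.two_le (Ne.symm hp2))
        obtain ⟨m, hm⟩ := hdvd
        rw [hpow, hx.2.1, hw.2.1, hm, pow_mul, hcp, one_pow, one_mul, one_mul]
      inv_mem' := fun {x} hx => ⟨N.inv_mem hx.1, by rw [inv_pow, hx.2.1, inv_one], fun y hy => by
        have e : x⁻¹ * y * x⁻¹⁻¹ * y⁻¹ = x⁻¹ * (x * y * x⁻¹ * y⁻¹)⁻¹ * x⁻¹⁻¹ := by group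
        rw [e]
        exact hzn.conj_mem _ (inv_mem (hx.2.2 y hy)) x⁻¹⟩ }
  have hDn : D.Normal := ⟨fun x hx g => ⟨hN.conj_mem x hx.1 g, by
    rw [conj_pow, hx.2.1, mul_one, mul_inv_cancel], fun y hy => by
    have e : g * x * g⁻¹ * y * (g * x * g⁻¹)⁻¹ * y⁻¹ =
        g * (x * (g⁻¹ * y * g) * x⁻¹ * (g⁻¹ * y * g)⁻¹) * g⁻¹ := by group
    rw [e]
    exact hzn.conj_mem _ (hx.2.2 _ (hN.conj_mem' y hy g)) g⟩⟩
  refine ⟨z, D, hzo, hzn, ⟨hzN, hzo ▸ pow_orderOf_eq_one z, fun y hy => by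
    rw [hzcent y hy, mul_inv_cancel_right, mul_inv_cancel]; exact one_mem _⟩,
    fun x hx => hx.2.1, fun x hx => hzcent x hx.1, fun x hx y hy => hx.2.2 y hy.1, ?_, ?_, hDn,
    hzcent⟩
  · -- the centre of `D`
    intro x hx hxc
    let ZD : Subgroup H :=
      { carrier := {w | w ∈ D ∧ ∀ y ∈ D, w * y = y * w}
        one_mem' := ⟨one_mem _, fun y _ => by simp⟩
        mul_mem' := fun {a b} ha hb => ⟨mul_mem ha.1 hb.1,
          fun y hy => ((show Commute a y from ha.2 y hy).mul_left (hb.2 y hy)).eq⟩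
        inv_mem' := fun {a} ha => ⟨inv_mem ha.1,
          fun y hy => (show Commute a y from ha.2 y hy).inv_left.eq⟩ }
    have hZDn : ZD.Normal := ⟨fun w hw g => ⟨hDn.conj_mem w hw.1 g, fun y hy => by
      have e := hw.2 _ (hDn.conj_mem' y hy g)
      calc g * w * g⁻¹ * y = g * (w * (g⁻¹ * y * g)) * g⁻¹ := by group
        _ = g * (g⁻¹ * y * g * w) * g⁻¹ := by rw [e]
        _ = y * (g * w * g⁻¹) := by group⟩⟩
    have hle : zpowers z ≤ ZD := zpowers_le.mpr ⟨⟨hzN, hzo ▸ pow_orderOf_eq_one z, fun y hy => by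
      rw [hzcent y hy, mul_inv_cancel_right, mul_inv_cancel]; exact one_mem _⟩,
      fun y hy => hzcent y hy.1⟩
    have := eq_of_le_of_card_ge hle (by
      rw [Nat.card_zpowers, hzo]
      exact hprim ZD hZDn (fun w hw => hw.1.1) (fun w hw => hw.1.2.1)
        fun w hw y hy => hw.2 y hy.1)
    rw [this]
    exact ⟨hx, hxc⟩
  · -- `a` lies in `D`
    refine ⟨haN, hap, fun y hy => ?_⟩
    have hmem : ∀ g : ↥N, ∃ e ∈ E, ∃ r ∈ R, g = e * r := fun g => by
      have h : g ∈ ((E ⊔ R : Subgroup ↥N) : Set ↥N) := hsup ▸ mem_top g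
      rw [mul_normal] at h
      obtain ⟨e, he, r, hr, rfl⟩ := h
      exact ⟨e, he, r, hr, rfl⟩
    obtain ⟨e1, he1, r1, hr1, ha1⟩ := hmem ⟨a, haN⟩
    obtain ⟨e2, he2, r2, hr2, hy2⟩ := hmem ⟨y, hy⟩
    have h1 := mem_center_iff.mp (hRcent hr1)
    have h2 := mem_center_iff.mp (hRcent hr2)
    have hcEp : ⁅(⟨e1, he1⟩ : ↥E), (⟨e2, he2⟩ : ↥E)⁆ ∈ center ↥E := by
      rw [← hED]
      exact commutator_mem_commutator (mem_top _) (mem_top _)
    have hcalc : (⟨a, haN⟩ : ↥N) * ⟨y, hy⟩ * (⟨a, haN⟩ : ↥N)⁻¹ * (⟨y, hy⟩ : ↥N)⁻¹ =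
        e1 * e2 * e1⁻¹ * e2⁻¹ := by
      rw [ha1, hy2]
      calc e1 * r1 * (e2 * r2) * (e1 * r1)⁻¹ * (e2 * r2)⁻¹
          = e1 * (r1 * e2) * r2 * r1⁻¹ * e1⁻¹ * r2⁻¹ * e2⁻¹ := by group
        _ = e1 * e2 * (r1 * r2) * r1⁻¹ * e1⁻¹ * r2⁻¹ * e2⁻¹ := by rw [← h1 e2]; group
        _ = e1 * e2 * (r2 * e1⁻¹) * r2⁻¹ * e2⁻¹ := by rw [← h1 r2]; group
        _ = e1 * e2 * e1⁻¹ * e2⁻¹ := by rw [← h2 e1⁻¹]; group
    have h := hcentZ ⟨_, hcEp⟩
    have e : a * y * a⁻¹ * y⁻¹ = ((e1 * e2 * e1⁻¹ * e2⁻¹ : ↥N) : H) := by rw [← hcalc]; rfl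
    rw [e]
    convert h using 2
    rfl

/-- The primitive case of the orbit theorem. -/
theorem prim_case (hp2 : p ≠ 2) (hcop : p.Coprime (Nat.card V)) (hirr : Irr H V) (hf : Faith H V)
    (N : Subgroup H) [hN : N.Normal] (hNp : IsPGroup p N)
    (hprim : ∀ B : Subgroup H, B.Normal → B ≤ N → (∀ b ∈ B, b ^ p = 1) →
      (∀ a ∈ B, ∀ b ∈ B, a * b = b * a) → Nat.card ↥B ≤ p)
    {a : H} (haN : a ∈ N) (hap : a ^ p = 1) (ha1 : a ≠ 1) :
    ∃ v : V, ∀ g : H, (g * a * g⁻¹) • v ≠ v := by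
  classical
  obtain ⟨v0, hv0⟩ : ∃ v : V, a • v ≠ v := by
    by_contra hcon; push Not at hcon; exact ha1 (hf a hcon)
  have hv0ne : v0 ≠ 0 := fun e => hv0 (by rw [e, smul_zero])
  by_cases hnc : ∃ y ∈ N, a * y ≠ y * a
  swap
  · -- a central element generates a normal subgroup
    push Not at hnc
    let Ω : Subgroup H :=
      { carrier := {x | x ∈ N ∧ x ^ p = 1 ∧ ∀ y ∈ N, x * y = y * x}
        one_mem' := ⟨N.one_mem, one_pow p, fun y _ => by simp⟩
        mul_mem' := fun {x w} hx hw => ⟨N.mul_mem hx.1 hw.1, by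
            rw [(show Commute x w from hx.2.2 w hw.1).mul_pow, hx.2.1, hw.2.1, mul_one],
          fun y hy => ((show Commute x y from hx.2.2 y hy).mul_left (hw.2.2 y hy)).eq⟩
        inv_mem' := fun {x} hx => ⟨N.inv_mem hx.1, by rw [inv_pow, hx.2.1, inv_one],
          fun y hy => (show Commute x y from hx.2.2 y hy).inv_left.eq⟩ }
    have hΩn : Ω.Normal := ⟨fun x hx g => ⟨hN.conj_mem x hx.1 g, by
      rw [conj_pow, hx.2.1, mul_one, mul_inv_cancel], fun y hy => by
      have e := hx.2.2 _ (hN.conj_mem' y hy g)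
      calc g * x * g⁻¹ * y = g * (x * (g⁻¹ * y * g)) * g⁻¹ := by group
        _ = g * (g⁻¹ * y * g * x) * g⁻¹ := by rw [e]
        _ = y * (g * x * g⁻¹) := by group⟩⟩
    have hcard := hprim Ω hΩn (fun x hx => hx.1) (fun x hx => hx.2.1) fun x hx y hy => hx.2.2 y hy.1
    refine ⟨v0, fun g hg => hv0ne ?_⟩
    have ha' : g * a * g⁻¹ ∈ Ω := hΩn.conj_mem a ⟨haN, hap, hnc⟩ g
    have ha'1 : g * a * g⁻¹ ≠ 1 := fun e => ha1 (conj_eq_one_iff.mp e)
    have ho : orderOf (g * a * g⁻¹) = p := orderOf_eq_prime ha'.2.1 ha'1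
    have heq : zpowers (g * a * g⁻¹) = Ω :=
      eq_of_le_of_card_ge (zpowers_le.mpr ha') (by rw [Nat.card_zpowers, ho]; exact hcard)
    have := hΩn
    refine (AddSubgroup.eq_bot_iff_forall _).mp (fixedBy'_eq_bot hirr Ω
      ⟨_, ha', by by_contra hcon; push Not at hcon; exact ha'1 (hf _ hcon)⟩) v0 ?_
    intro b hb
    rw [← heq] at hb
    exact (MulAction.stabilizer H v0).zpowers_le.mpr hg hb
  obtain ⟨z, D, hzo, hzn, hzD, hexp, hzc, hder, hcen, haD, hDn, hzN⟩ :=
    exists_frame hp2 N hNp hprim haN hap hnc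
  have hz1 : z ≠ 1 := fun e => by rw [e, orderOf_one] at hzo; exact hp.out.ne_one hzo.symm
  have hzfix : fixedBy' V (zpowers z) = ⊥ := fixedBy'_eq_bot hirr _
    ⟨z, mem_zpowers z, by by_contra hcon; push Not at hcon; exact hz1 (hf z hcon)⟩
  have hfpf : ∀ w : V, z • w = w → w = 0 := fun w hw =>
    (AddSubgroup.eq_bot_iff_forall _).mp hzfix w fun b hb =>
      (MulAction.stabilizer H w).zpowers_le.mpr hw hb
  have hVne : (⊤ : AddSubgroup V) ≠ ⊥ := fun e =>
    hv0ne ((AddSubgroup.mem_bot).mp (e ▸ AddSubgroup.mem_top v0))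
  obtain ⟨m, hm1, hm2⟩ := extra_bound hcop hzo _ D rfl hzD hexp hzc hder hcen ⊤ hVne
    (fun _ _ _ _ => AddSubgroup.mem_top _) (fun w _ => hfpf w)
  rw [AddSubgroup.card_top] at hm2
  set wa := Nat.card ↥(fixedBy' V (zpowers a) : AddSubgroup V) with hwa
  have hpowfix : ∀ d ∈ D, d ∉ zpowers z →
      Nat.card V = Nat.card ↥(fixedBy' V (zpowers d) : AddSubgroup V) ^ p := by
    intro d hd hdz
    obtain ⟨y, hy, hyd⟩ := exists_partner hzo hzc hder hd (by
      by_contra hcon; push Not at hcon; exact hdz (hcen d hd hcon))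
    have h := card_eq_pow hcop (⊤ : AddSubgroup V) (hexp d hd) (hexp y hy) (hexp z hzD)
      (hzc d hd) (hzc y hy) hyd (fun _ _ => AddSubgroup.mem_top _) (fun _ _ => AddSubgroup.mem_top _)
      (fun _ _ => AddSubgroup.mem_top _) (fun w _ => hfpf w)
    rwa [top_inf_eq, AddSubgroup.card_top] at h
  have haz : a ∉ zpowers z := by
    intro h
    obtain ⟨y, hy, hya⟩ := hnc
    obtain ⟨k, rfl⟩ := mem_zpowers_iff.mp h
    exact hya ((show Commute z y from hzN y hy).zpow_left k).eq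
  by_contra hcon
  push Not at hcon
  have := Fintype.ofFinite V
  have := Fintype.ofFinite H
  set S : Finset H := Finset.univ.filter (fun d => d ∈ D ∧ d ∉ zpowers z) with hS
  set U : Finset V := Finset.univ.filter (fun v => v ≠ 0) with hU
  have hlow : ∀ v ∈ U, p - 1 ≤ (S.filter (fun d => d • v = v)).card := by
    intro v hv
    obtain ⟨g, hg⟩ := hcon v
    set b := g * a * g⁻¹ with hb
    have hbD : b ∈ D := hDn.conj_mem a haD g
    have hbz : b ∉ zpowers z := fun h => haz (by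
      have := hzn.conj_mem _ h g⁻¹
      rwa [hb, inv_inv, show g⁻¹ * (g * a * g⁻¹) * g = a from by group] at this)
    have hbo : orderOf b = p := orderOf_eq_prime (hexp b hbD) fun e => hbz (e ▸ one_mem _)
    have hinj : Set.InjOn (fun i : ℕ => b ^ (i + 1)) (Finset.range (p - 1) : Set ℕ) := by
      intro i hi j hj hij
      simp only [Finset.coe_range, Set.mem_Iio] at hi hj
      have h := pow_injOn_Iio_orderOf (x := b) (by rw [hbo, Set.mem_Iio]; omega)
        (by rw [hbo, Set.mem_Iio]; omega) hij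
      omega
    rw [← Finset.card_range (p - 1), ← Finset.card_image_of_injOn hinj]
    refine Finset.card_le_card fun d hd => ?_
    obtain ⟨i, hi, rfl⟩ := Finset.mem_image.mp hd
    rw [Finset.mem_range] at hi
    simp only [hS, Finset.mem_filter, Finset.mem_univ, true_and]
    refine ⟨⟨D.pow_mem hbD _, fun h => hbz ?_⟩, ?_⟩
    · obtain ⟨m, -, hm⟩ := Nat.exists_mul_mod_eq_one_of_coprime
        ((hp.out.coprime_iff_not_dvd.mpr (Nat.not_dvd_of_pos_of_lt (Nat.succ_pos i)
          (by omega : i + 1 < p))).symm) hp.out.one_lt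
      have h' := pow_mem h m
      rwa [← pow_mul, ← Nat.mod_add_div ((i + 1) * m) p, hm, pow_add, pow_one, pow_mul,
        hexp b hbD, one_pow, mul_one] at h'
    · exact MulAction.mem_stabilizer_iff.mp
        ((MulAction.stabilizer H v).pow_mem (MulAction.mem_stabilizer_iff.mpr hg) _)
  have hswap : ∑ v ∈ U, (S.filter (fun d => d • v = v)).card =
      ∑ d ∈ S, (U.filter (fun v => d • v = v)).card := by
    simp only [Finset.card_filter]
    exact Finset.sum_comm
  have hup : ∀ d ∈ S, (U.filter (fun v => d • v = v)).card ≤ wa - 1 := by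
    intro d hd
    simp only [hS, Finset.mem_filter, Finset.mem_univ, true_and] at hd
    have heq : Nat.card ↥(fixedBy' V (zpowers d) : AddSubgroup V) = wa :=
      Nat.pow_left_injective hp.out.ne_zero
        ((hpowfix d hd.1 hd.2).symm.trans (hpowfix a haD haz))
    rw [← heq, Nat.card_eq_fintype_card]
    have h0 : (0 : V) ∉ U.filter (fun v => d • v = v) := by simp [hU]
    have hle : (insert (0 : V) (U.filter (fun v => d • v = v))).card ≤
        Fintype.card ↥(fixedBy' V (zpowers d) : AddSubgroup V) := by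
      rw [← Fintype.card_coe]
      refine Fintype.card_le_of_injective
        (fun v => ⟨(v : V), fun b hb => ?_⟩) (fun u v h => Subtype.ext (congrArg Subtype.val h :))
      refine (MulAction.stabilizer H (v : V)).zpowers_le.mpr ?_ hb
      rcases Finset.mem_insert.mp v.2 with h | h
      · rw [MulAction.mem_stabilizer_iff, h, smul_zero]
      · exact (Finset.mem_filter.mp h).2
    rw [Finset.card_insert_of_notMem h0] at hle
    omega
  have hUcard : U.card = Nat.card V - 1 := by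
    rw [hU, Nat.card_eq_fintype_card, Finset.filter_ne', Finset.card_erase_of_mem
      (Finset.mem_univ _), Finset.card_univ]
  have hScard : S.card ≤ Nat.card ↥D := by
    rw [Nat.card_eq_fintype_card, Fintype.card_subtype]
    exact Finset.card_le_card fun d hd => by
      simp only [hS, Finset.mem_filter, Finset.mem_univ, true_and] at hd ⊢
      exact hd.1
  have htot : (p - 1) * (Nat.card V - 1) ≤ p ^ (2 * m + 1) * (wa - 1) := by
    calc (p - 1) * (Nat.card V - 1) = ∑ v ∈ U, (p - 1) := by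
          rw [Finset.sum_const, hUcard, smul_eq_mul, mul_comm]
      _ ≤ ∑ v ∈ U, (S.filter (fun d => d • v = v)).card := Finset.sum_le_sum hlow
      _ ≤ S.card * (wa - 1) := by
          rw [hswap, ← smul_eq_mul]
          exact Finset.sum_le_card_nsmul _ _ _ hup
      _ ≤ p ^ (2 * m + 1) * (wa - 1) := Nat.mul_le_mul_right _ (hScard.trans hm1)
  rw [hpowfix a haD haz] at hm2 htot
  change (p - 1) * (wa ^ p - 1) ≤ _ at htot
  change (p + 1) ^ p ^ m ≤ wa ^ p at hm2
  refine arith hp.out hp2 ?_ hm2 htot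
  intro hm0
  rw [hm0, mul_zero, zero_add, pow_one] at hm1
  have hle : zpowers z = D := eq_of_le_of_card_ge (zpowers_le.mpr hzD)
    (by rw [Nat.card_zpowers, hzo]; exact hm1)
  exact haz (hle ▸ haD)

end Cfsg.Agent.WielandtOdd
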